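import Cfsg.Agent.Lib.Char.Kernel
import Cfsg.Agent.Lib.Char.Average
import Cfsg.Agent.Lib.Char.Induce
import Cfsg.Agent.Lib.Char.ModP
import Cfsg.Agent.Lib.Block.Codegree
import Cfsg.Agent.S4456

/-!
A noncentral element at which exactly one nonlinear irreducible character does not vanish:
character values, the centralizer order, and the normal `q`-complement.
-/

set_option autoImplicit false

namespace Cfsg.Agent.Char.OneSeen

open Cfsg Cfsg.Agent.Char Cfsg.Agent.Block
open scoped ComplexConjugate commutatorElement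

universe u

/-- The hypotheses. -/
structure Seen {G : Type u} [Group G] (g : G) (χ : IrrCharacter G) : Prop where
  noncentral : g ∉ Subgroup.center G
  deg : charDegree (χ : G → ℂ) ≠ 1
  ne : (χ : G → ℂ) g ≠ 0
  other : ∀ ψ : IrrCharacter G, charDegree (ψ : G → ℂ) ≠ 1 → ψ ≠ χ → (ψ : G → ℂ) g = 0

variable {G : Type u} [Group G] [Fintype G] {g : G} {χ : IrrCharacter G}

/-- The linear irreducible character of a homomorphism. -/
noncomputable def linIrr (l : G →* ℂˣ) : IrrCharacter G := ⟨fun x => (l x : ℂ), isIrr_linear l⟩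

omit [Fintype G] in
theorem linIrr_injective : Function.Injective (linIrr (G := G)) := fun a b e =>
  MonoidHom.ext fun x => Units.ext (congrFun (congrArg Subtype.val e) x)

theorem card_linHom : Nat.card (G →* ℂˣ) = (commutator G).index := by
  rw [Subgroup.index_eq_card, show Nat.card (G →* ℂˣ) = Nat.card (Abelianization G →* ℂˣ) from
    Nat.card_congr Abelianization.lift]
  haveI : Finite (Abelianization G) := Finite.of_surjective Abelianization.of Quotient.mk_surjective
  exact CommGroup.card_monoidHom_of_hasEnoughRootsOfUnity (Abelianization G) ℂ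

omit [Fintype G] in
theorem lin_eq_one (l : G →* ℂˣ) {x : G} (hx : x ∈ commutator G) : l x = 1 :=
  Abelianization.commutator_subset_ker l hx

theorem finite_linHom : Finite (G →* ℂˣ) := by
  refine Nat.finite_of_card_ne_zero ?_
  rw [card_linHom]
  exact Subgroup.index_ne_zero_of_finite

open scoped Classical in
theorem sum_lin [Fintype (G →* ℂˣ)] (x : G) :
    ∑ l : G →* ℂˣ, ((l x : ℂˣ) : ℂ) =
      if x ∈ commutator G then ((commutator G).index : ℂ) else 0 := by
  split_ifs with hx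
  · simp [lin_eq_one _ hx, ← card_linHom (G := G), Nat.card_eq_fintype_card]
  · obtain ⟨l0, hl0⟩ : ∃ l : G →* ℂˣ, l x ≠ 1 := by
      by_contra hno
      push Not at hno
      refine hx ((QuotientGroup.eq_one_iff x).mp
        (eq_one_of_forall_linear (G := Abelianization G) (fun a b => mul_comm a b)
          (g := Abelianization.of x) fun l => ?_))
      exact hno (l.comp Abelianization.of)
    have h1 : ∑ l : G →* ℂˣ, (((l0 * l) x : ℂˣ) : ℂ) = ∑ l : G →* ℂˣ, ((l x : ℂˣ) : ℂ) :=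
      Fintype.sum_equiv (Equiv.mulLeft l0) _ _ fun l => rfl
    simp only [MonoidHom.mul_apply, Units.val_mul, ← Finset.mul_sum] at h1
    by_contra h0
    exact hl0 (Units.ext ((mul_eq_right₀ h0).mp h1))

variable (h : Seen g χ)
include h

theorem Seen.chi_not_lin (l : G →* ℂˣ) : linIrr l ≠ χ := fun e => h.deg (by
  have : (χ : G → ℂ) 1 = 1 := by rw [← e]; simp [linIrr]
  simp [charDegree, this])

open scoped Classical in
theorem Seen.column (x : G) :
    ∑ ψ : IrrCharacter G, (ψ : G → ℂ) x * conj ((ψ : G → ℂ) g) =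
    ∑ᶠ l : G →* ℂˣ, ((l x : ℂˣ) : ℂ) * conj ((l g : ℂˣ) : ℂ) +
      (χ : G → ℂ) x * conj ((χ : G → ℂ) g) := by
  haveI := finite_linHom (G := G)
  haveI := Fintype.ofFinite (G →* ℂˣ)
  rw [finsum_eq_sum_of_fintype,
    ← Finset.sum_filter_add_sum_filter_not (Finset.univ : Finset (IrrCharacter G))
      (fun ψ : IrrCharacter G => charDegree (ψ : G → ℂ) = 1)]
  congr 1
  · symm
    refine Finset.sum_bij (fun l _ => linIrr l) (fun l _ => Finset.mem_filter.mpr
      ⟨Finset.mem_univ _, by simp [linIrr, charDegree]⟩) (fun a _ b _ e => linIrr_injective e)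
      (fun ψ hψ => ?_) (fun l _ => rfl)
    have h1 : (ψ : G → ℂ) 1 = 1 := by
      rw [charDeg_spec', (Finset.mem_filter.mp hψ).2, Nat.cast_one]
    obtain ⟨l, hl⟩ := linearHom_of_isCharacter (IsIrr.isCharacter ψ.2) h1
    exact ⟨l, Finset.mem_univ _, Subtype.ext hl.symm⟩
  · rw [Finset.sum_eq_single_of_mem χ (Finset.mem_filter.mpr ⟨Finset.mem_univ _, h.deg⟩)]
    intro ψ hψ hne
    rw [h.other ψ (Finset.mem_filter.mp hψ).2 hne, map_zero, mul_zero]

theorem Seen.g_ne_one : g ≠ 1 := fun e => h.noncentral (e ▸ Subgroup.one_mem _)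

theorem Seen.g_mem : g ∈ commutator G := by
  classical
  haveI := finite_linHom (G := G)
  haveI := Fintype.ofFinite (G →* ℂˣ)
  by_contra hg
  have h1 := h.column (1 : G)
  rw [sum_irr_mul_conj, if_neg (fun e => h.g_ne_one (isConj_one_right.mp e)),
    finsum_eq_sum_of_fintype] at h1
  have h2 : ∑ l : G →* ℂˣ, ((l (1 : G) : ℂˣ) : ℂ) * conj ((l g : ℂˣ) : ℂ) = 0 := by
    simp only [map_one, Units.val_one, one_mul, ← map_sum, sum_lin g, if_neg hg, map_zero]
  rw [h2, zero_add] at h1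
  exact h.ne ((map_eq_zero (starRingEnd ℂ)).mp
    ((mul_eq_zero.mp h1.symm).resolve_left (IsIrr.one_ne_zero χ.2)))

open scoped Classical in
theorem Seen.column' (x : G) :
    (if IsConj x g then (Nat.card (Subgroup.centralizer ({g} : Set G)) : ℂ) else 0) =
      (if x ∈ commutator G then ((commutator G).index : ℂ) else 0) +
        (χ : G → ℂ) x * conj ((χ : G → ℂ) g) := by
  haveI := finite_linHom (G := G)
  haveI := Fintype.ofFinite (G →* ℂˣ)
  have h1 := h.column x
  rw [sum_irr_mul_conj, finsum_eq_sum_of_fintype] at h1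
  have h2 : ∑ l : G →* ℂˣ, ((l x : ℂˣ) : ℂ) * conj ((l g : ℂˣ) : ℂ) =
      ∑ l : G →* ℂˣ, ((l x : ℂˣ) : ℂ) :=
    Finset.sum_congr rfl fun l _ => by simp [lin_eq_one l h.g_mem]
  rw [h2, sum_lin] at h1
  convert h1 using 2

theorem Seen.value : (χ : G → ℂ) g = -(((commutator G).index : ℂ) / (χ : G → ℂ) 1) := by
  classical
  have h1 := h.column' (1 : G)
  rw [if_neg (fun e => h.g_ne_one (isConj_one_right.mp e)), if_pos (one_mem _)] at h1
  obtain ⟨n, hn, hn'⟩ := IsIrr.one_eq_pos χ.2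
  have hne : ((n : ℕ) : ℂ) ≠ 0 := Nat.cast_ne_zero.mpr hn.ne'
  rw [hn'] at h1 ⊢
  have h2 : conj ((χ : G → ℂ) g) = -(((commutator G).index : ℂ) / n) := by
    field_simp
    linear_combination (norm := ring_nf) (-1 : ℂ) * h1
  have h3 := congrArg conj h2
  rwa [Complex.conj_conj, map_neg, map_div₀, map_natCast, map_natCast] at h3

theorem Seen.conj_value : conj ((χ : G → ℂ) g) = (χ : G → ℂ) g := by
  obtain ⟨n, hn, hn'⟩ := IsIrr.one_eq_pos χ.2
  rw [h.value, hn', map_neg, map_div₀, map_natCast, map_natCast]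

theorem Seen.vanish {x : G} (hx : x ∉ commutator G) : (χ : G → ℂ) x = 0 := by
  classical
  have h1 := h.column' x
  have hnc : ¬ IsConj x g := fun e => hx (by
    obtain ⟨c, hc⟩ := isConj_iff.mp e.symm
    exact hc ▸ Subgroup.Normal.conj_mem inferInstance g h.g_mem c)
  rw [if_neg hnc, if_neg hx, zero_add, h.conj_value] at h1
  exact (mul_eq_zero.mp h1.symm).resolve_right h.ne

/-- The kernel of the character. -/
noncomputable def Seen.ker (_ : Seen g χ) : Subgroup G := irrKer χ

theorem Seen.ker_normal : h.ker.Normal := irrKer_normal χ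

theorem Seen.mem_ker {x : G} : x ∈ h.ker ↔ (χ : G → ℂ) x = (χ : G → ℂ) 1 := mem_irrKer

theorem Seen.ker_or_conj {x : G} (hx : x ∈ commutator G) : x ∈ h.ker ∨ IsConj g x := by
  classical
  by_contra hno
  push Not at hno
  have h1 := h.column' x
  rw [if_neg (fun e => hno.2 e.symm), if_pos hx, h.conj_value, h.value] at h1
  obtain ⟨n, hn, hn'⟩ := IsIrr.one_eq_pos χ.2
  have hA : (((commutator G).index : ℕ) : ℂ) ≠ 0 := Nat.cast_ne_zero.mpr Subgroup.index_ne_zero_of_finite
  refine hno.1 (h.mem_ker.mpr ?_)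
  rw [hn'] at h1 ⊢
  have hne : ((n : ℕ) : ℂ) ≠ 0 := Nat.cast_ne_zero.mpr hn.ne'
  field_simp at h1
  have h3 : (((commutator G).index : ℕ) : ℂ) * ((χ : G → ℂ) x - n) = 0 := by
    linear_combination h1
  exact sub_eq_zero.mp ((mul_eq_zero.mp h3).resolve_left hA)

theorem Seen.ker_le : h.ker ≤ commutator G := fun x hx => by
  by_contra hno
  exact IsIrr.one_ne_zero χ.2 ((h.mem_ker.mp hx).symm.trans (h.vanish hno))

theorem Seen.g_not_ker : g ∉ h.ker := fun hg => by
  obtain ⟨n, hn, hn'⟩ := IsIrr.one_eq_pos χ.2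
  have h1 := h.mem_ker.mp hg
  rw [h.value, hn'] at h1
  have hne : ((n : ℕ) : ℂ) ≠ 0 := Nat.cast_ne_zero.mpr hn.ne'
  field_simp at h1
  have hnat : ((commutator G).index : ℤ) + (n : ℤ) * n = 0 := by
    have : (((commutator G).index : ℤ) : ℂ) + ((n : ℤ) : ℂ) * ((n : ℤ) : ℂ) = 0 := by
      push_cast
      linear_combination (-1 : ℂ) * h1
    exact_mod_cast this
  have : (1 : ℤ) ≤ n := by exact_mod_cast hn
  nlinarith

theorem Seen.conj_not_ker {x : G} (hx : IsConj g x) : x ∉ h.ker := fun hk => h.g_not_ker (by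
  obtain ⟨c, hc⟩ := isConj_iff.mp hx.symm
  exact hc ▸ h.ker_normal.conj_mem x hk c)

theorem Seen.set_eq : (commutator G : Set G) =
    {x : G | (χ : G → ℂ) x = (χ : G → ℂ) 1} ∪ {y : G | IsConj g y} := by
  ext x
  refine ⟨fun hx => (h.ker_or_conj hx).imp_left h.mem_ker.mp, ?_⟩
  rintro (hx | hx)
  · exact h.ker_le (h.mem_ker.mpr hx)
  · obtain ⟨c, hc⟩ := isConj_iff.mp hx
    exact hc ▸ Subgroup.Normal.conj_mem inferInstance g h.g_mem c

theorem Seen.unique {ψ : IrrCharacter G} (hψ : charDegree (ψ : G → ℂ) ≠ 1)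
    (hk : ∀ x : G, (χ : G → ℂ) x = (χ : G → ℂ) 1 → (ψ : G → ℂ) x = (ψ : G → ℂ) 1) : ψ = χ := by
  classical
  haveI := finite_linHom (G := G)
  haveI := Fintype.ofFinite (G →* ℂˣ)
  by_contra hne
  have hψg := h.other ψ hψ hne
  have h0 : ∀ l : G →* ℂˣ, classInner (ψ : G → ℂ) (fun x => (l x : ℂ)) = 0 := fun l =>
    classInner_irr_ne ψ.2 (isIrr_linear l) fun e => hψ (by
      have : (ψ : G → ℂ) 1 = 1 := by rw [e]; simp
      simp [charDegree, this])
  have h1 : ∑ l : G →* ℂˣ, classInner (ψ : G → ℂ) (fun x => (l x : ℂ)) = 0 :=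
    Finset.sum_eq_zero fun l _ => h0 l
  simp only [classInner, ← Finset.mul_sum] at h1
  rw [Finset.sum_comm] at h1
  simp only [← Finset.mul_sum, ← map_sum, sum_lin] at h1
  have h2 : ∀ x : G, (ψ : G → ℂ) x * conj (if x ∈ commutator G then ((commutator G).index : ℂ) else 0) =
      if x ∈ h.ker then (ψ : G → ℂ) 1 * ((commutator G).index : ℂ) else 0 := fun x => by
    by_cases hxK : x ∈ h.ker
    · rw [if_pos (h.ker_le hxK), if_pos hxK, hk x (h.mem_ker.mp hxK), map_natCast]
    · rw [if_neg hxK]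
      by_cases hx : x ∈ commutator G
      · rw [IsClass.eq_of_isConj (IsIrr.classFun ψ.2) ((h.ker_or_conj hx).resolve_left hxK).symm,
          hψg, zero_mul]
      · rw [if_neg hx, map_zero, mul_zero]
  rw [Finset.sum_congr rfl fun x _ => h2 x, ← Finset.sum_filter, Finset.sum_const, nsmul_eq_mul] at h1
  rcases mul_eq_zero.mp h1 with h3 | h3
  · exact inv_ne_zero (Nat.cast_ne_zero.mpr Nat.card_pos.ne') h3
  rcases mul_eq_zero.mp h3 with h4 | h4
  · have hmem : (1 : G) ∈ Finset.univ.filter (fun x => x ∈ h.ker) := by simp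
    exact Finset.card_ne_zero_of_mem hmem (Nat.cast_eq_zero.mp h4)
  rcases mul_eq_zero.mp h4 with h5 | h5
  · exact IsIrr.one_ne_zero ψ.2 h5
  · exact Subgroup.index_ne_zero_of_finite (Nat.cast_eq_zero.mp h5)

/-- Characters nontrivial on the kernel vanish at `g`. -/
theorem Seen.eq_zero {ψ : IrrCharacter G} {k : G} (hk : k ∈ h.ker)
    (hψ : (ψ : G → ℂ) k ≠ (ψ : G → ℂ) 1) : (ψ : G → ℂ) g = 0 := by
  refine h.other ψ (fun e => hψ ?_) (fun e => hψ ?_)
  · obtain ⟨l, hl⟩ := linearHom_of_isCharacter (IsIrr.isCharacter ψ.2)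
      (by rw [charDeg_spec', e, Nat.cast_one])
    simp [hl, lin_eq_one l (h.ker_le hk)]
  · rw [e]; exact h.mem_ker.mp hk

/-- Counting identities. -/
theorem Seen.degree_sq :
    charDegree (χ : G → ℂ) ^ 2 + (commutator G).index =
      (commutator G).index * h.ker.relIndex (commutator G) := by
  classical
  haveI := h.ker_normal
  have h0 : classInner (χ : G → ℂ) (fun _ : G => (1 : ℂ)) = 0 :=
    classInner_irr_ne χ.2 isIrr_one fun e => h.deg (by rw [e]; exact charDeg_trivial)
  simp only [classInner, map_one, mul_one] at h0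
  have h1 := (mul_eq_zero.mp h0).resolve_left (inv_ne_zero (Nat.cast_ne_zero.mpr Nat.card_pos.ne'))
  have h2 : ∀ x : G, (χ : G → ℂ) x = (if x ∈ h.ker then (χ : G → ℂ) 1 else 0) +
      ((if x ∈ commutator G then (χ : G → ℂ) g else 0) - (if x ∈ h.ker then (χ : G → ℂ) g else 0)) :=
    fun x => by
    by_cases hxK : x ∈ h.ker
    · simp [hxK, h.ker_le hxK, h.mem_ker.mp hxK]
    · by_cases hx : x ∈ commutator G
      · simp [hxK, hx, IsClass.eq_of_isConj (IsIrr.classFun χ.2)
          ((h.ker_or_conj hx).resolve_left hxK).symm]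
      · simp [hxK, hx, h.vanish hx]
  rw [Finset.sum_congr rfl fun x _ => h2 x, Finset.sum_add_distrib, Finset.sum_sub_distrib] at h1
  simp only [← Finset.sum_filter, Finset.sum_const, nsmul_eq_mul] at h1
  have hc : ∀ S : Subgroup G, (Finset.univ.filter (fun x => x ∈ S)).card = Nat.card S := fun S => by
    rw [Nat.card_eq_fintype_card, ← Fintype.card_subtype]
  rw [hc, hc, h.value, charDeg_spec'] at h1
  have hmul : h.ker.relIndex (commutator G) * Nat.card h.ker = Nat.card (commutator G) := by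
    rw [← Nat.card_congr (Subgroup.subgroupOfEquivOfLe h.ker_le).toEquiv, Subgroup.relIndex,
      Subgroup.index_mul_card]
  rw [← hmul, Nat.cast_mul] at h1
  set d := charDegree (χ : G → ℂ)
  have hd : (d : ℂ) ≠ 0 := by rw [← charDeg_spec']; exact IsIrr.one_ne_zero χ.2
  have hK : ((Nat.card h.ker : ℕ) : ℂ) ≠ 0 := Nat.cast_ne_zero.mpr Nat.card_pos.ne'
  field_simp at h1
  have h3 : (Nat.card h.ker : ℂ) * ((d : ℂ) ^ 2 + ((commutator G).index : ℂ) -
      ((commutator G).index : ℂ) * (h.ker.relIndex (commutator G) : ℂ)) = 0 := by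
    linear_combination h1
  have h4 := sub_eq_zero.mp ((mul_eq_zero.mp h3).resolve_left hK)
  exact_mod_cast h4

theorem Seen.card_cent :
    Nat.card (Subgroup.centralizer ({g} : Set G)) * (h.ker.relIndex (commutator G) - 1) =
      (commutator G).index * h.ker.relIndex (commutator G) := by
  classical
  have h1 := h.column' g
  rw [if_pos (IsConj.refl g), if_pos h.g_mem, h.conj_value, h.value, charDeg_spec'] at h1
  have h2 := h.degree_sq
  set A := (commutator G).index
  set N := h.ker.relIndex (commutator G)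
  set c := Nat.card (Subgroup.centralizer ({g} : Set G))
  set d := charDegree (χ : G → ℂ)
  have hd : (d : ℂ) ≠ 0 := by rw [← charDeg_spec']; exact IsIrr.one_ne_zero χ.2
  have hA : 0 < A := Nat.pos_of_ne_zero Subgroup.index_ne_zero_of_finite
  have hN : 1 ≤ N := by
    rcases Nat.eq_zero_or_pos N with e | e
    · rw [e] at h2; simp at h2; omega
    · exact e
  have h2' : (d : ℂ) ^ 2 = (A : ℂ) * ((N - 1 : ℕ) : ℂ) := by
    have : d ^ 2 = A * (N - 1) := by rw [Nat.mul_sub, mul_one]; omega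
    exact_mod_cast this
  field_simp at h1
  have h3 : (A : ℂ) * ((c : ℂ) * ((N - 1 : ℕ) : ℂ)) = (A : ℂ) * ((A : ℂ) * N) := by
    have hN' : ((N - 1 : ℕ) : ℂ) = (N : ℂ) - 1 := by rw [Nat.cast_sub hN, Nat.cast_one]
    rw [hN'] at h2' ⊢
    linear_combination h1 + ((A : ℂ) - (c : ℂ)) * h2'
  exact_mod_cast mul_left_cancel₀ (Nat.cast_ne_zero.mpr hA.ne') h3

/-- An element commuting with `y` outside the kernel, of order prime to `q`, is trivial. -/
theorem Seen.comm_trick {q : ℕ} [hq : Fact q.Prime] {m : ℕ} (hm : orderOf g = q ^ m) {x y : G}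
    (hx : x ∈ h.ker) (hy : y ∈ commutator G) (hy0 : y ∉ h.ker) (hcop : (orderOf x).Coprime q)
    (hxy : x * y = y * x) : x = 1 := by
  have hyg := (h.ker_or_conj hy).resolve_left hy0
  have hmul : x * y ∉ h.ker := fun e => hy0 (by
    have := h.ker.mul_mem (h.ker.inv_mem hx) e
    simpa using this)
  have hc := (h.ker_or_conj ((commutator G).mul_mem (h.ker_le hx) hy)).resolve_left hmul
  have e1 : ∀ {z : G}, IsConj g z → orderOf z = q ^ m := fun {z} hz => by
    obtain ⟨c, rfl⟩ := isConj_iff.mp hz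
    rw [← hm]
    exact MulEquiv.orderOf_eq (MulAut.conj c) g
  have h1 : orderOf (x * y) = orderOf x * orderOf y :=
    (Commute.orderOf_mul_eq_mul_orderOf_of_coprime hxy (by rw [e1 hyg]; exact hcop.pow_right m))
  rw [e1 hc, e1 hyg] at h1
  exact orderOf_eq_one_iff.mp
    (Nat.eq_of_mul_eq_mul_right (pow_pos hq.out.pos m) (by rw [one_mul]; exact h1.symm))

theorem Seen.order_prime : ∃ q : ℕ, q.Prime ∧ (∃ m, orderOf g = q ^ m) ∧ g ^ q ∈ h.ker ∧
    ∃ n, 1 ≤ n ∧ h.ker.relIndex (commutator G) = q ^ n := by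
  classical
  haveI := h.ker_normal
  have hg1 : orderOf g ≠ 1 := fun e => h.g_ne_one (orderOf_eq_one_iff.mp e)
  have key : ∀ r : ℕ, r.Prime → r ∣ orderOf g → g ^ r ∈ h.ker := fun r hr hd => by
    by_contra hno
    have hc := (h.ker_or_conj ((commutator G).pow_mem h.g_mem r)).resolve_left hno
    have : orderOf (g ^ r) = orderOf g := by
      obtain ⟨c, hc⟩ := isConj_iff.mp hc
      rw [← hc]
      exact MulEquiv.orderOf_eq (MulAut.conj c) g
    rw [orderOf_pow_of_dvd hr.ne_zero hd] at this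
    exact (Nat.div_lt_self (orderOf_pos g) hr.one_lt).ne this
  obtain ⟨q, hq, hqd⟩ := Nat.exists_prime_and_dvd hg1
  have hpow : ∀ r : ℕ, r.Prime → r ∣ orderOf g → r = q := fun r hr hd => by
    by_contra hne
    refine h.g_not_ker ?_
    have := h.ker.mul_mem (h.ker.zpow_mem (key r hr hd) (Nat.gcdA r q))
      (h.ker.zpow_mem (key q hq hqd) (Nat.gcdB r q))
    rwa [← zpow_natCast g r, ← zpow_natCast g q, ← zpow_mul, ← zpow_mul, ← zpow_add,
      ← Nat.gcd_eq_gcd_ab, ((Nat.coprime_primes hr hq).mpr hne).gcd_eq_one, Nat.cast_one,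
      zpow_one] at this
  refine ⟨q, hq, ⟨_, Nat.eq_prime_pow_of_unique_prime_dvd (orderOf_pos g).ne' fun {d} hd hdd =>
    hpow d hd hdd⟩, key q hq hqd, ?_⟩
  haveI := Fact.mk hq
  set K' := h.ker.subgroupOf (commutator G)
  have hp : IsPGroup q (commutator G ⧸ K') := fun z => by
    obtain ⟨⟨x, hx⟩, rfl⟩ := QuotientGroup.mk_surjective z
    refine ⟨1, ?_⟩
    rw [pow_one, ← QuotientGroup.mk_pow, QuotientGroup.eq_one_iff, Subgroup.mem_subgroupOf]
    rcases h.ker_or_conj hx with hk | hc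
    · exact h.ker.pow_mem hk q
    · obtain ⟨c, hc⟩ := isConj_iff.mp hc
      show x ^ q ∈ h.ker
      rw [← hc, conj_pow]
      exact h.ker_normal.conj_mem _ (key q hq hqd) c
  obtain ⟨n, hn⟩ := IsPGroup.iff_card.mp hp
  rw [← Subgroup.index_eq_card] at hn
  refine ⟨n, Nat.pos_of_ne_zero fun e => h.g_not_ker ?_, hn⟩
  rw [e, pow_zero] at hn
  exact (Subgroup.relIndex_eq_one.mp hn) h.g_mem

/-- The derived subgroup modulo the kernel is abelian. -/
theorem Seen.comm_mod {q n : ℕ} [hq : Fact q.Prime] (hn : h.ker.relIndex (commutator G) = q ^ n)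
    {x y : G} (hx : x ∈ commutator G) (hy : y ∈ commutator G) :
    x * y * x⁻¹ * y⁻¹ ∈ h.ker := by
  classical
  haveI := h.ker_normal
  set K' := h.ker.subgroupOf (commutator G)
  have hp : IsPGroup q (commutator G ⧸ K') :=
    IsPGroup.of_card (n := n) (by rw [← Subgroup.index_eq_card]; exact hn)
  have hne : Nontrivial (commutator G ⧸ K') :=
    ⟨⟨((⟨g, h.g_mem⟩ : commutator G) : commutator G ⧸ K'), 1, fun e =>
      h.g_not_ker (Subgroup.mem_subgroupOf.mp ((QuotientGroup.eq_one_iff _).mp e))⟩⟩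
  have := hp.center_nontrivial
  obtain ⟨⟨w, hw⟩, hw1⟩ := exists_ne (1 : Subgroup.center (commutator G ⧸ K'))
  obtain ⟨⟨w0, hw0⟩, hw0e⟩ := QuotientGroup.mk_surjective w
  have hwK : w0 ∉ h.ker := fun e => hw1 (Subtype.ext (show w = 1 by
    rw [← hw0e, QuotientGroup.eq_one_iff]; exact Subgroup.mem_subgroupOf.mpr e))
  have hcen : ∀ v ∈ commutator G, w0 * v * w0⁻¹ * v⁻¹ ∈ h.ker := fun v hv => by
    have h1 := Subgroup.mem_center_iff.mp hw ((⟨v, hv⟩ : commutator G) : commutator G ⧸ K')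
    rw [← hw0e, ← QuotientGroup.mk_mul, ← QuotientGroup.mk_mul, QuotientGroup.eq,
      Subgroup.mem_subgroupOf] at h1
    have h2 : (v * w0)⁻¹ * (w0 * v) ∈ h.ker := h1
    have h3 := h.ker_normal.conj_mem _ h2 (v * w0)
    simpa [mul_assoc] using h3
  rcases h.ker_or_conj hx with hk | hc
  · exact (show x * (y * x⁻¹ * y⁻¹) ∈ h.ker from
      h.ker.mul_mem hk (h.ker_normal.conj_mem _ (h.ker.inv_mem hk) y)) |> (by
        simpa [mul_assoc] using ·)
  · obtain ⟨c, rfl⟩ := isConj_iff.mp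
      (((h.ker_or_conj hw0).resolve_left hwK).symm.trans hc)
    have h1 := hcen (c⁻¹ * y * c) (by
      simpa using Subgroup.Normal.conj_mem inferInstance y hy c⁻¹)
    have h2 := h.ker_normal.conj_mem _ h1 c
    simpa [mul_assoc] using h2

end Cfsg.Agent.Char.OneSeen
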