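import Cfsg.Agent.Lib.Char.OneSeen.PowFpf

/-!
A `q`-group whose cosets outside `Q0` are classes, with an abelian group transitive and regular on
the nontrivial elements of `Q/Q0`, has `Q0` central.
-/

set_option autoImplicit false

namespace Cfsg.Agent.Char.OneSeen

open Subgroup Cfsg.Agent.Grp
open scoped commutatorElement

universe u

/-- The hypotheses. -/
structure TwoStep {L : Type u} [Group L] (q : ℕ) (Q Q0 : Subgroup L) : Prop where
  normal : Q.Normal
  normal0 : Q0.Normal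
  pgroup : IsPGroup q Q
  lt : Q0 < Q
  exp : ∀ x ∈ Q, x ^ q ∈ Q0
  comm : ∀ x ∈ Q, ∀ y ∈ Q, x * y * x⁻¹ * y⁻¹ ∈ Q0
  ab : commutator L ≤ Q
  trans : ∀ x ∈ Q, x ∉ Q0 → ∀ y ∈ Q, y ∉ Q0 → ∃ a : L, a * x * a⁻¹ * y⁻¹ ∈ Q0
  stab : ∀ x ∈ Q, x ∉ Q0 → ∀ a : L, a * x * a⁻¹ * x⁻¹ ∈ Q0 → a ∈ Q
  cam : ∀ x ∈ Q, x ∉ Q0 → ∀ k ∈ Q0, ∃ c ∈ Q, c * x * c⁻¹ = x * k

variable {L : Type u} [Group L]

theorem TwoStep.map {q : ℕ} {Q Q0 : Subgroup L} (h : TwoStep q Q Q0) (Z : Subgroup L) [Z.Normal]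
    (hZ : Z ≤ Q0) :
    TwoStep q (Q.map (QuotientGroup.mk' Z)) (Q0.map (QuotientGroup.mk' Z)) := by
  set π := QuotientGroup.mk' Z with hπ
  have hs : Function.Surjective π := QuotientGroup.mk'_surjective Z
  have hmem : ∀ {A : Subgroup L}, Z ≤ A → ∀ {x : L}, π x ∈ A.map π ↔ x ∈ A := fun {A} hA {x} =>
    ⟨fun hx => by
      have : x ∈ (A.map π).comap π := hx
      rwa [Subgroup.comap_map_eq_self (by rw [hπ, QuotientGroup.ker_mk']; exact hA)] at this,
      fun hx => ⟨x, hx, rfl⟩⟩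
  have hZQ : Z ≤ Q := hZ.trans h.lt.le
  have h0 : ∀ {x : L}, π x ∈ Q0.map π ↔ x ∈ Q0 := fun {x} => hmem hZ
  refine ⟨h.normal.map π hs, h.normal0.map π hs, h.pgroup.map π, ?_, ?_, ?_, ?_, ?_, ?_, ?_⟩
  · refine lt_of_le_of_ne (Subgroup.map_mono h.lt.le) fun e => ?_
    obtain ⟨x, hx, hx0⟩ := SetLike.exists_of_lt h.lt
    exact hx0 (h0.mp (e ▸ ⟨x, hx, rfl⟩))
  · rintro _ ⟨x, hx, rfl⟩
    rw [← map_pow]
    exact h0.mpr (h.exp x hx)
  · rintro _ ⟨x, hx, rfl⟩ _ ⟨y, hy, rfl⟩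
    simpa only [← map_mul, ← map_inv] using h0.mpr (h.comm x hx y hy)
  · have : commutator (L ⧸ Z) = (commutator L).map π := by
      rw [commutator_def, commutator_def, Subgroup.map_commutator, Subgroup.map_top_of_surjective π hs]
    rw [this]
    exact Subgroup.map_mono h.ab
  · rintro _ ⟨x, hx, rfl⟩ hx0 _ ⟨y, hy, rfl⟩ hy0
    obtain ⟨a, ha⟩ := h.trans x hx (fun e => hx0 (h0.mpr e)) y hy (fun e => hy0 (h0.mpr e))
    exact ⟨π a, by simpa only [← map_mul, ← map_inv] using h0.mpr ha⟩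
  · rintro _ ⟨x, hx, rfl⟩ hx0 a ha
    obtain ⟨a, rfl⟩ := hs a
    simp only [← map_mul, ← map_inv] at ha
    exact (hmem hZQ).mpr (h.stab x hx (fun e => hx0 (h0.mpr e)) a (h0.mp ha))
  · rintro _ ⟨x, hx, rfl⟩ hx0 _ ⟨k, hk, rfl⟩
    obtain ⟨c, hc, e⟩ := h.cam x hx (fun e => hx0 (h0.mpr e)) k hk
    exact ⟨π c, ⟨c, hc, rfl⟩, by simp only [← map_mul, ← map_inv, e]⟩

variable [Finite L]

theorem TwoStep.card_centralizer {q : ℕ} {Q Q0 : Subgroup L} (h : TwoStep q Q Q0) {x : L}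
    (hx : x ∈ Q) (hx0 : x ∉ Q0) :
    Nat.card (Q ⊓ Subgroup.centralizer ({x} : Set L) : Subgroup L) * Nat.card Q0 = Nat.card Q := by
  classical
  choose s hsQ hs using fun k : Q0 => h.cam x hx hx0 k k.2
  let f : (Q ⊓ Subgroup.centralizer ({x} : Set L) : Subgroup L) × Q0 → Q := fun z =>
    ⟨s z.2 * z.1, Q.mul_mem (hsQ z.2) z.1.2.1⟩
  rw [← Nat.card_prod]
  refine Nat.card_congr (Equiv.ofBijective f ⟨?_, ?_⟩)
  · rintro ⟨⟨d, hd⟩, k⟩ ⟨⟨d', hd'⟩, k'⟩ e
    have e' : s k * d = s k' * d' := congrArg Subtype.val e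
    have key : ∀ (k : Q0) (d : L), d * x = x * d → (s k * d) * x * (s k * d)⁻¹ = x * k := fun k d hd => by
      calc (s k * d) * x * (s k * d)⁻¹ = s k * (d * x) * d⁻¹ * (s k)⁻¹ := by group
        _ = x * k := by rw [hd, ← hs k]; group
    have h1 := key k d (Subgroup.mem_centralizer_singleton_iff.mp hd.2)
    rw [e', key k' d' (Subgroup.mem_centralizer_singleton_iff.mp hd'.2), mul_right_inj] at h1
    have hk : k = k' := (Subtype.ext h1).symm
    subst hk
    exact Prod.ext (Subtype.ext (mul_left_cancel e')) rfl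
  · rintro ⟨c, hc⟩
    have hk : x⁻¹ * (c * x * c⁻¹) ∈ Q0 := by
      have := h.normal0.conj_mem _ (h.comm c hc x hx) x⁻¹
      simpa [mul_assoc] using this
    refine ⟨(⟨(s ⟨_, hk⟩)⁻¹ * c, Q.mul_mem (Q.inv_mem (hsQ _)) hc,
      Subgroup.mem_centralizer_singleton_iff.mpr ?_⟩, ⟨_, hk⟩), Subtype.ext (mul_inv_cancel_left _ _)⟩
    have e := hs ⟨_, hk⟩
    simp only [mul_inv_cancel_left] at e
    set e0 := s ⟨_, hk⟩ with he0
    clear_value e0
    calc e0⁻¹ * c * x = e0⁻¹ * (c * x * c⁻¹) * c := by group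
      _ = x * (e0⁻¹ * c) := by rw [← e]; group

/-- All orbits of a semiregular action have the same size. -/
theorem semiregular_dvd {A X : Type u} [Group A] [MulAction A X] [Finite A] [Finite X]
    (E : Subgroup A) (h : ∀ x : X, MulAction.stabilizer A x = E) : E.index ∣ Nat.card X := by
  classical
  haveI := Fintype.ofFinite (MulAction.orbitRel.Quotient A X)
  rw [Nat.card_congr (MulAction.selfEquivSigmaOrbits A X), Nat.card_sigma]
  refine Finset.dvd_sum fun ω _ => ?_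
  rw [Nat.card_coe_set_eq, ← MulAction.index_stabilizer, h]

/-- Conjugation on the nontrivial elements of an invariant subgroup. -/
@[reducible] def conjNontriv (A : Subgroup L) (M : Subgroup L) (hA : A ≤ Subgroup.normalizer (M : Set L))
    {Ω : Type u} [Group Ω] (π : L →* Ω) : MulAction A {x : Ω // x ∈ M.map π ∧ x ≠ 1} where
  smul a x := ⟨π a * x.1 * (π a)⁻¹, by
    obtain ⟨m, hm, hmx⟩ := x.2.1
    exact ⟨a * m * (a : L)⁻¹, mem_conj_normalizer (hA a.2) hm, by simp [← hmx]⟩,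
    fun e => x.2.2 (by rwa [mul_inv_eq_one, mul_eq_left] at e)⟩
  one_smul x := Subtype.ext (show π ((1 : A) : L) * x.1 * _ = x.1 by simp)
  mul_smul a b x := Subtype.ext (show π ((a * b : A) : L) * x.1 * (π ((a * b : A) : L))⁻¹ =
      π a * (π b * x.1 * (π b)⁻¹) * (π a)⁻¹ by simp [mul_assoc])

theorem card_nontriv {Ω : Type u} [Group Ω] [Finite Ω] (M : Subgroup Ω) :
    Nat.card {x : Ω // x ∈ M ∧ x ≠ 1} + 1 = Nat.card M := by
  classical
  have e1 : {x : Ω // x ∈ M ∧ x ≠ 1} ≃ {x : M // x ≠ 1} :=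
    { toFun := fun x => ⟨⟨x.1, x.2.1⟩, fun e => x.2.2 (congrArg Subtype.val e)⟩
      invFun := fun x => ⟨x.1.1, x.1.2, fun e => x.2 (Subtype.ext e)⟩
      left_inv := fun _ => rfl
      right_inv := fun _ => rfl }
  haveI := Fintype.ofFinite M
  rw [Nat.card_congr e1, Nat.card_eq_fintype_card, Nat.card_eq_fintype_card,
    Fintype.card_subtype_compl, Fintype.card_subtype_eq]
  have : 0 < Fintype.card M := Fintype.card_pos
  omega

theorem gcd_bound {q n l r : ℕ} (hq : 1 < q) (hl : l < n) (hl0 : 0 < l)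
    (h1 : r ∣ q ^ n - 1) (h2 : r ∣ q ^ l - 1) : r ≤ q ^ (n / 2) - 1 := by
  have h3 : r ∣ q ^ Nat.gcd n l - 1 := by
    rw [← Nat.pow_sub_one_gcd_pow_sub_one]
    exact Nat.dvd_gcd h1 h2
  have hg : Nat.gcd n l ≤ n / 2 := by
    obtain ⟨c, hc⟩ := Nat.gcd_dvd_left n l
    have hgl : Nat.gcd n l ≤ l := Nat.le_of_dvd hl0 (Nat.gcd_dvd_right n l)
    have hgpos : 0 < Nat.gcd n l := Nat.gcd_pos_of_pos_right n hl0
    set g := Nat.gcd n l
    rcases c with _ | _ | c
    · simp at hc; omega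
    · simp at hc; omega
    · have h2g : g * 2 ≤ n := by rw [hc]; exact Nat.mul_le_mul_left g (by omega)
      omega
  have hpos : 0 < q ^ Nat.gcd n l - 1 := by
    have : q ≤ q ^ Nat.gcd n l := Nat.le_self_pow (Nat.gcd_pos_of_pos_right n hl0).ne' q
    omega
  have := Nat.le_of_dvd hpos h3
  have hmono : q ^ Nat.gcd n l ≤ q ^ (n / 2) := Nat.pow_le_pow_right (by omega) hg
  omega

theorem quot_card {Q Q0 : Subgroup L} [Q0.Normal] (hle : Q0 ≤ Q) :
    Nat.card (Q.map (QuotientGroup.mk' Q0)) * Nat.card Q0 = Nat.card Q := by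
  have h1 : ((QuotientGroup.mk' Q0).subgroupMap Q).ker = Q0.subgroupOf Q := by
    rw [MonoidHom.ker_restrict', QuotientGroup.ker_mk']
  have h2 : Function.Surjective ((QuotientGroup.mk' Q0).subgroupMap Q) :=
    MonoidHom.subgroupMap_surjective _ _
  rw [← Subgroup.index_mul_card (((QuotientGroup.mk' Q0).subgroupMap Q).ker), Subgroup.index_ker,
    MonoidHom.range_eq_top.mpr h2, Subgroup.card_top, h1,
    Nat.card_congr (Subgroup.subgroupOfEquivOfLe hle).toEquiv]
where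
  MonoidHom.ker_restrict' {f : L →* L ⧸ Q0} : (f.subgroupMap Q).ker = f.ker.subgroupOf Q := by
    ext x
    simp [MonoidHom.mem_ker, Subgroup.mem_subgroupOf, Subtype.ext_iff]

/-- The key case. -/
theorem TwoStep.core {q : ℕ} [hq : Fact q.Prime] {Q Q0 : Subgroup L} (h : TwoStep q Q Q0)
    (hR1 : ⁅Q0, Q⁆ ≠ ⊥)
    (hmin : ∀ Z : Subgroup L, Z.Normal → Z ≤ ⁅Q0, Q⁆ → Z ≠ ⊥ → Z = ⁅Q0, Q⁆) : False := by
  classical
  haveI := h.normal
  haveI := h.normal0
  have hle := h.lt.le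
  set R := ⁅Q0, Q⁆ with hR
  have hRQ0 : R ≤ Q0 := Subgroup.commutator_le_left _ _
  haveI hRn : R.Normal := Subgroup.commutator_normal _ _
  -- the centre step
  obtain ⟨z, hz, hz1, -, hzc⟩ := exists_step (q := q) h.pgroup (M := R) (N := ⊥) (hRQ0.trans hle)
    (bot_lt_iff_ne_bot.mpr hR1) Subgroup.le_normalizer_of_normal Subgroup.le_normalizer_of_normal
  have hcenR : R ≤ Subgroup.centralizer (Q : Set L) := by
    have hne : R ⊓ Subgroup.centralizer (Q : Set L) ≠ ⊥ := fun e => hz1 (by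
      have : z ∈ R ⊓ Subgroup.centralizer (Q : Set L) :=
        ⟨hz, Subgroup.mem_centralizer_iff.mpr fun x hx => by
          have := Subgroup.mem_bot.mp (hzc x hx)
          rw [mul_inv_eq_one, mul_inv_eq_iff_eq_mul] at this
          exact this⟩
      rwa [e] at this)
    haveI : (Subgroup.centralizer (Q : Set L)).Normal := Subgroup.normal_centralizer
    have := hmin (R ⊓ Subgroup.centralizer (Q : Set L)) inferInstance inf_le_left hne
    rw [← this]; exact inf_le_right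
  obtain ⟨x, hx, hx0⟩ := SetLike.exists_of_lt h.lt
  -- `Q0` lies in the derived subgroup and is abelian
  have hQ0' : Q0 ≤ ⁅Q, Q⁆ := fun k hk => by
    obtain ⟨c, hc, e⟩ := h.cam x hx hx0 k hk
    have hk' : k = x⁻¹ * ⁅c, x⁆ * x := by
      rw [commutatorElement_def, e]; group
    rw [hk']
    simpa using (inferInstance : (⁅Q, Q⁆ : Subgroup L).Normal).conj_mem _
      (Subgroup.commutator_mem_commutator hc hx) x⁻¹
  have hRQ : ⁅R, Q⁆ = ⊥ := Subgroup.commutator_eq_bot_iff_le_centralizer.mpr hcenR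
  have habl : ⁅Q0, Q0⁆ = ⊥ := by
    have h2 : ⁅⁅Q, Q⁆, Q0⁆ = ⊥ := Subgroup.commutator_commutator_eq_bot_of_rotate
      (by rw [Subgroup.commutator_comm Q Q0]; exact hRQ) hRQ
    exact eq_bot_iff.mpr ((Subgroup.commutator_mono hQ0' le_rfl).trans h2.le)
  have hcomm0 : Q0 ≤ Subgroup.centralizer (Q0 : Set L) :=
    Subgroup.commutator_eq_bot_iff_le_centralizer.mp habl
  set Cz := Q0 ⊓ Subgroup.centralizer (Q : Set L) with hCz
  haveI : (Subgroup.centralizer (Q : Set L)).Normal := Subgroup.normal_centralizer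
  haveI hCzn : Cz.Normal := inferInstance
  have hRCz : R ≤ Cz := le_inf hRQ0 hcenR
  have hCzlt : Cz < Q0 := lt_of_le_of_ne inf_le_left fun e => hR1 (by
    refine Subgroup.commutator_eq_bot_iff_le_centralizer.mpr ?_
    rw [← e]; exact inf_le_right)
  obtain ⟨S1, ⟨hS1n, hS1lt, hS1le⟩, hS1min⟩ := (Set.toFinite
    {S : Subgroup L | S.Normal ∧ Cz < S ∧ S ≤ Q0}).exists_minimal ⟨Q0, h.normal0, hCzlt, le_rfl⟩
  haveI := hS1n
  set π := QuotientGroup.mk' Cz with hπdef
  have hπ1 : ∀ {y : L}, π y = 1 ↔ y ∈ Cz := fun {y} => QuotientGroup.eq_one_iff y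
  set E := Subgroup.comap π (Subgroup.centralizer ((S1.map π : Subgroup (L ⧸ Cz)) : Set (L ⧸ Cz)))
    with hE
  have hEmem : ∀ {a : L}, a ∈ E ↔ ∀ s ∈ S1, π a * π s = π s * π a := fun {a} => by
    rw [hE, Subgroup.mem_comap, Subgroup.mem_centralizer_iff]
    exact ⟨fun ha s hs => (ha _ ⟨s, hs, rfl⟩).symm, fun ha y hy => by
      obtain ⟨s, hs, rfl⟩ := hy
      exact (ha s hs).symm⟩
  have hQE : Q ≤ E := fun a ha => hEmem.mpr fun s hs => by
    rw [← commutatorElement_eq_one_iff_mul_comm, ← map_commutatorElement, hπ1]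
    refine hRCz ?_
    rw [hR, Subgroup.commutator_comm]
    exact Subgroup.commutator_mem_commutator ha (hS1le hs)
  -- an element fixing one point of the section fixes all of it
  have hone : ∀ a : L, ∀ c ∈ S1, c ∉ Cz → π a * π c = π c * π a → a ∈ E := by
    intro a c hc hcz hac
    let F := S1 ⊓ Subgroup.comap π (Subgroup.centralizer ({π a} : Set (L ⧸ Cz)))
    have hFmem : ∀ {s : L}, s ∈ F ↔ s ∈ S1 ∧ π s * π a = π a * π s := fun {s} => by
      simp only [F, Subgroup.mem_inf, Subgroup.mem_comap, Subgroup.mem_centralizer_singleton_iff]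
    have hFn : F.Normal := ⟨fun s hs l => by
      obtain ⟨hs1, hs2⟩ := hFmem.mp hs
      refine hFmem.mpr ⟨hS1n.conj_mem s hs1 l, ?_⟩
      have hq' : a⁻¹ * (l⁻¹ * a * l) ∈ E := hQE (h.ab (by
        rw [show a⁻¹ * (l⁻¹ * a * l) = ⁅a⁻¹, l⁻¹⁆ by rw [commutatorElement_def]; group,
          commutator_def]
        exact Subgroup.commutator_mem_commutator (Subgroup.mem_top _) (Subgroup.mem_top _)))
      have h2 : π (l⁻¹ * a * l) * π s = π s * π (l⁻¹ * a * l) := by
        rw [show l⁻¹ * a * l = a * (a⁻¹ * (l⁻¹ * a * l)) by group, map_mul, mul_assoc,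
          hEmem.mp hq' s hs1, ← mul_assoc, ← hs2, mul_assoc]
      simp only [map_mul, map_inv] at h2 ⊢
      calc π l * π s * (π l)⁻¹ * π a = π l * (π s * ((π l)⁻¹ * π a * π l)) * (π l)⁻¹ := by group
        _ = π a * (π l * π s * (π l)⁻¹) := by rw [← h2]; group⟩
    have hFlt : Cz < F := by
      refine lt_of_le_of_ne (fun s hs => hFmem.mpr ⟨hS1lt.le hs, by simp [hπ1.mpr hs]⟩) fun e => ?_
      exact hcz (e ▸ hFmem.mpr ⟨hc, hac.symm⟩)
    have hFS : S1 ≤ F := hS1min ⟨hFn, hFlt, inf_le_left.trans hS1le⟩ inf_le_left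
    exact hEmem.mpr fun s hs => (hFmem.mp (hFS hs)).2.symm
  obtain ⟨c, hc, hcz⟩ := SetLike.exists_of_lt hS1lt
  obtain ⟨n, hn⟩ : ∃ n, Nat.card (Q.map (QuotientGroup.mk' Q0)) = q ^ n :=
    IsPGroup.iff_card.mp (h.pgroup.map _)
  have hcardQ : q ^ n * Nat.card Q0 = Nat.card Q := hn ▸ quot_card hle
  have hcent : ∀ y ∈ Q, y ∉ Q0 →
      Nat.card (Q ⊓ Subgroup.centralizer ({y} : Set L) : Subgroup L) = q ^ n := fun y hy hy0 =>
    Nat.eq_of_mul_eq_mul_right Nat.card_pos ((h.card_centralizer hy hy0).trans hcardQ.symm)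
  -- `R` is small
  have hRsmall : Nat.card R < q ^ n := by
    rw [← hcent x hx hx0]
    refine lt_of_le_of_ne (Nat.le_of_dvd Nat.card_pos (Subgroup.card_dvd_of_le ?_)) fun e => hx0 ?_
    · exact le_inf (hRQ0.trans hle) fun y hy => Subgroup.mem_centralizer_singleton_iff.mpr
        (Subgroup.mem_centralizer_iff.mp (hcenR hy) x hx).symm
    · have := Subgroup.eq_of_le_of_card_ge (le_inf (hRQ0.trans hle) fun y hy =>
        Subgroup.mem_centralizer_singleton_iff.mpr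
          (Subgroup.mem_centralizer_iff.mp (hcenR hy) x hx).symm) e.ge
      exact hRQ0 (this ▸ ⟨hx, Subgroup.mem_centralizer_singleton_iff.mpr rfl⟩)
  -- the section is small
  have hz : TwoStep q (Q.map π) (Q0.map π) := h.map Cz inf_le_left
  have hx0' : π x ∉ Q0.map π := fun hm => hx0 (by
    have : x ∈ (Q0.map π).comap π := hm
    rwa [Subgroup.comap_map_eq_self (by rw [hπdef, QuotientGroup.ker_mk']; exact inf_le_left)] at this)
  obtain ⟨l, hl⟩ : ∃ l, Nat.card (S1.map π) = q ^ l :=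
    IsPGroup.iff_card.mp ((h.pgroup.to_le (hS1le.trans hle)).map _)
  have hl_lt : l < n := by
    have hc' : Nat.card (Q.map π ⊓ Subgroup.centralizer ({π x} : Set (L ⧸ Cz)) :
        Subgroup (L ⧸ Cz)) = q ^ n := by
      refine Nat.eq_of_mul_eq_mul_right (Nat.card_pos (α := Q0.map π)) ?_
      rw [hz.card_centralizer ⟨x, hx, rfl⟩ hx0']
      refine Nat.eq_of_mul_eq_mul_right (Nat.card_pos (α := Cz)) ?_
      rw [mul_assoc, quot_card (inf_le_left.trans hle : Cz ≤ Q),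
        quot_card inf_le_left, hcardQ]
    have hS : S1.map π ≤ Q.map π ⊓ Subgroup.centralizer ({π x} : Set (L ⧸ Cz)) := by
      rintro _ ⟨s, hs, rfl⟩
      exact ⟨⟨s, hle (hS1le hs), rfl⟩, Subgroup.mem_centralizer_singleton_iff.mpr
        (hEmem.mp (hQE hx) s hs).symm⟩
    have hne : S1.map π ≠ Q.map π ⊓ Subgroup.centralizer ({π x} : Set (L ⧸ Cz)) := fun e => hx0' (by
      obtain ⟨s, hs, hse⟩ : π x ∈ S1.map π :=
        e ▸ ⟨⟨x, hx, rfl⟩, Subgroup.mem_centralizer_singleton_iff.mpr rfl⟩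
      exact ⟨s, hS1le hs, hse⟩)
    have : Nat.card (S1.map π) < q ^ n := hc' ▸ lt_of_le_of_ne
      (Nat.le_of_dvd Nat.card_pos (Subgroup.card_dvd_of_le hS))
      (fun e => hne (Subgroup.eq_of_le_of_card_ge hS e.ge))
    rw [hl] at this
    exact (Nat.pow_lt_pow_iff_right hq.out.one_lt).mp this
  have hl0 : 0 < l := Nat.pos_of_ne_zero fun e => hcz (hπ1.mp (Subgroup.mem_bot.mp
    ((Subgroup.card_eq_one.mp (by rw [hl, e, pow_zero])) ▸ (⟨c, hc, rfl⟩ : π c ∈ S1.map π))))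
  -- orbit counts
  have hQ1 : Q.index + 1 = q ^ n := by
    let X := {y : L ⧸ Q0 // y ∈ Q.map (QuotientGroup.mk' Q0) ∧ y ≠ 1}
    letI : MulAction (⊤ : Subgroup L) X :=
      conjNontriv ⊤ Q Subgroup.le_normalizer_of_normal (QuotientGroup.mk' Q0)
    have hq0 : ∀ {y : L}, QuotientGroup.mk' Q0 y = 1 ↔ y ∈ Q0 := fun {y} =>
      QuotientGroup.eq_one_iff y
    let x1 : X := ⟨QuotientGroup.mk' Q0 x, ⟨x, hx, rfl⟩, fun e => hx0 (hq0.mp e)⟩
    have horb : MulAction.orbit (⊤ : Subgroup L) x1 = Set.univ := Set.eq_univ_of_forall fun y => by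
      obtain ⟨y', hy', hyy⟩ := y.2.1
      obtain ⟨a, ha⟩ := h.trans x hx hx0 y' hy' (fun e => y.2.2 (hyy ▸ hq0.mpr e))
      refine ⟨⟨a, Subgroup.mem_top a⟩, Subtype.ext ?_⟩
      show QuotientGroup.mk' Q0 a * QuotientGroup.mk' Q0 x * (QuotientGroup.mk' Q0 a)⁻¹ = y.1
      rw [← hyy, ← map_inv, ← map_mul, ← map_mul, ← mul_inv_eq_one, ← map_inv, ← map_mul]
      exact hq0.mpr ha
    have hst : MulAction.stabilizer (⊤ : Subgroup L) x1 = Q.subgroupOf ⊤ := by
      ext a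
      rw [MulAction.mem_stabilizer_iff, Subgroup.mem_subgroupOf]
      constructor
      · intro e
        refine h.stab x hx hx0 a (hq0.mp ?_)
        have e' : QuotientGroup.mk' Q0 (a : L) * QuotientGroup.mk' Q0 x *
          (QuotientGroup.mk' Q0 (a : L))⁻¹ = QuotientGroup.mk' Q0 x := congrArg Subtype.val e
        simp only [map_mul, map_inv]
        rw [e', mul_inv_cancel]
      · intro ha
        refine Subtype.ext ?_
        show QuotientGroup.mk' Q0 (a : L) * QuotientGroup.mk' Q0 x *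
          (QuotientGroup.mk' Q0 (a : L))⁻¹ = QuotientGroup.mk' Q0 x
        rw [← mul_inv_eq_one, ← map_inv, ← map_mul, ← map_mul, ← map_inv, ← map_mul]
        exact hq0.mpr (h.comm _ ha x hx)
    have h1 := MulAction.index_stabilizer (⊤ : Subgroup L) x1
    rw [horb, Set.ncard_univ, hst] at h1
    have h2 : (Q.subgroupOf ⊤).index = Q.index := Subgroup.relIndex_top_right Q
    rw [← h2, h1, ← hn]
    exact card_nontriv _
  have hr : E.index ∣ q ^ l - 1 := by
    let X := {y : L ⧸ Cz // y ∈ S1.map π ∧ y ≠ 1}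
    letI : MulAction (⊤ : Subgroup L) X := conjNontriv ⊤ S1 Subgroup.le_normalizer_of_normal π
    have hst : ∀ y : X, MulAction.stabilizer (⊤ : Subgroup L) y = E.subgroupOf ⊤ := fun y => by
      obtain ⟨s, hs, hsy⟩ := y.2.1
      have hsz : s ∉ Cz := fun e => y.2.2 (hsy ▸ hπ1.mpr e)
      ext a
      rw [MulAction.mem_stabilizer_iff, Subgroup.mem_subgroupOf]
      constructor
      · intro e
        refine hone a s hs hsz ?_
        have e' : π (a : L) * y.1 * (π (a : L))⁻¹ = y.1 := congrArg Subtype.val e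
        rw [hsy]
        exact mul_inv_eq_iff_eq_mul.mp e'
      · intro ha
        refine Subtype.ext ?_
        show π (a : L) * y.1 * (π (a : L))⁻¹ = y.1
        rw [← hsy, hEmem.mp ha s hs, mul_inv_cancel_right]
    have h1 := semiregular_dvd _ hst
    rw [show (E.subgroupOf ⊤).index = E.index from Subgroup.relIndex_top_right E] at h1
    have h2 := card_nontriv (S1.map π)
    rwa [show q ^ l - 1 = Nat.card X by rw [← hl, ← h2, Nat.add_sub_cancel]]
  set B := Q ⊓ Subgroup.centralizer ({c} : Set L) with hB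
  have hcQ0 : c ∈ Q0 := hS1le hc
  have hQ0B : Q0 ≤ B := le_inf hle fun y hy => Subgroup.mem_centralizer_singleton_iff.mpr
    (Subgroup.mem_centralizer_iff.mp (hcomm0 hy) c hcQ0).symm
  have hBne : B ≠ Q := fun e => hcz ⟨hcQ0, Subgroup.mem_centralizer_iff.mpr fun y hy => by
    exact Subgroup.mem_centralizer_singleton_iff.mp ((e ▸ hy : y ∈ B)).2⟩
  obtain ⟨d, hd⟩ : ∃ d, Nat.card (B.map (QuotientGroup.mk' Q0)) = q ^ d :=
    IsPGroup.iff_card.mp ((h.pgroup.to_le inf_le_left).map _)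
  have hdn : d < n := by
    have hsub : B.map (QuotientGroup.mk' Q0) ≤ Q.map (QuotientGroup.mk' Q0) :=
      Subgroup.map_mono inf_le_left
    have : Nat.card (B.map (QuotientGroup.mk' Q0)) < q ^ n := by
      rw [← hn]
      refine lt_of_le_of_ne (Nat.le_of_dvd Nat.card_pos (Subgroup.card_dvd_of_le hsub)) fun e => hBne ?_
      have := Subgroup.eq_of_le_of_card_ge hsub e.ge
      have h2 := congrArg (Subgroup.comap (QuotientGroup.mk' Q0)) this
      rwa [Subgroup.comap_map_eq_self (by rw [QuotientGroup.ker_mk']; exact hQ0B),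
        Subgroup.comap_map_eq_self (by rw [QuotientGroup.ker_mk']; exact hle)] at h2
    rw [hd] at this
    exact (Nat.pow_lt_pow_iff_right hq.out.one_lt).mp this
  have hd0 : 0 < d := Nat.pos_of_ne_zero fun e => by
    -- `B = Q0`, so `R` is large
    have hBQ0 : B ≤ Q0 := fun y hy => (QuotientGroup.eq_one_iff y).mp (Subgroup.mem_bot.mp
      ((Subgroup.card_eq_one.mp (by rw [hd, e, pow_zero])) ▸
        (⟨y, hy, rfl⟩ : QuotientGroup.mk' Q0 y ∈ B.map (QuotientGroup.mk' Q0))))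
    have hmemR : ∀ y ∈ Q, ⁅c, y⁆ ∈ R := fun y hy =>
      hR ▸ Subgroup.commutator_mem_commutator hcQ0 hy
    let φ : Q →* R :=
      { toFun := fun y => ⟨⁅c, (y : L)⁆, hmemR y y.2⟩
        map_one' := Subtype.ext (by simp)
        map_mul' := fun y y' => Subtype.ext (by
          show ⁅c, (y : L) * y'⁆ = ⁅c, (y : L)⁆ * ⁅c, (y' : L)⁆
          have hz := Subgroup.mem_centralizer_iff.mp (hcenR (hmemR y' y'.2)) y y.2
          calc ⁅c, (y : L) * y'⁆ = ⁅c, (y : L)⁆ * (y * ⁅c, (y' : L)⁆) * (y : L)⁻¹ := by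
                simp [commutatorElement_def, mul_assoc]
            _ = ⁅c, (y : L)⁆ * ⁅c, (y' : L)⁆ := by rw [hz]; group) }
    have hker : φ.ker ≤ Q0.subgroupOf Q := fun y hy => by
      refine Subgroup.mem_subgroupOf.mpr (hBQ0 ⟨y.2, Subgroup.mem_centralizer_singleton_iff.mpr ?_⟩)
      exact (commutatorElement_eq_one_iff_mul_comm.mp (congrArg Subtype.val hy)).symm
    have h1 : Nat.card φ.ker * Nat.card φ.range = Nat.card Q := by
      rw [← Subgroup.index_ker, Subgroup.card_mul_index]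
    have h2 : Nat.card φ.ker ≤ Nat.card Q0 :=
      (Nat.le_of_dvd Nat.card_pos (Subgroup.card_dvd_of_le hker)).trans_eq
        (Nat.card_congr (Subgroup.subgroupOfEquivOfLe hle).toEquiv)
    have h3 : Nat.card φ.range ≤ Nat.card R :=
      Nat.le_of_dvd Nat.card_pos (Subgroup.card_subgroup_dvd_card _)
    have : q ^ n * Nat.card Q0 < q ^ n * Nat.card Q0 :=
      calc q ^ n * Nat.card Q0 = Nat.card φ.ker * Nat.card φ.range := by rw [h1, hcardQ]
        _ ≤ Nat.card Q0 * Nat.card R := Nat.mul_le_mul h2 h3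
        _ < Nat.card Q0 * q ^ n := Nat.mul_lt_mul_of_pos_left hRsmall Nat.card_pos
        _ = q ^ n * Nat.card Q0 := mul_comm _ _
    exact lt_irrefl _ this
  have hEn : E ≤ Subgroup.normalizer (B : Set L) := by
    have key : ∀ a ∈ E, ∀ y ∈ B, a * y * a⁻¹ ∈ B := fun a ha y hy => by
      refine ⟨h.normal.conj_mem y hy.1 a, Subgroup.mem_centralizer_singleton_iff.mpr ?_⟩
      have hk : a * c * a⁻¹ * c⁻¹ ∈ Cz := hπ1.mp (by
        simp only [map_mul, map_inv]
        rw [hEmem.mp ha c hc]; group)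
      set k := a * c * a⁻¹ * c⁻¹ with hkdef
      have hyc : y * c = c * y := Subgroup.mem_centralizer_singleton_iff.mp hy.2
      have hky : (a * y * a⁻¹) * k = k * (a * y * a⁻¹) :=
        Subgroup.mem_centralizer_iff.mp hk.2 _ (h.normal.conj_mem y hy.1 a)
      have h1 : (a * y * a⁻¹) * (k * c) = (k * c) * (a * y * a⁻¹) := by
        calc (a * y * a⁻¹) * (k * c) = a * (y * c) * a⁻¹ := by rw [hkdef]; group
          _ = a * (c * y) * a⁻¹ := by rw [hyc]
          _ = (k * c) * (a * y * a⁻¹) := by rw [hkdef]; group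
      refine mul_left_cancel (a := k) ?_
      rw [← mul_assoc, ← hky, mul_assoc, h1, mul_assoc]
    intro a ha
    rw [Subgroup.mem_normalizer_iff]
    intro y
    refine ⟨key a ha y, fun hy => ?_⟩
    simpa [mul_assoc] using key a⁻¹ (E.inv_mem ha) _ hy
  have hs : Q.relIndex E ∣ q ^ d - 1 := by
    let X := {y : L ⧸ Q0 // y ∈ B.map (QuotientGroup.mk' Q0) ∧ y ≠ 1}
    letI : MulAction E X := conjNontriv E B hEn (QuotientGroup.mk' Q0)
    have hq0 : ∀ {y : L}, QuotientGroup.mk' Q0 y = 1 ↔ y ∈ Q0 := fun {y} =>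
      QuotientGroup.eq_one_iff y
    have hst : ∀ y : X, MulAction.stabilizer E y = Q.subgroupOf E := fun y => by
      obtain ⟨s, hs, hsy⟩ := y.2.1
      have hs0 : s ∉ Q0 := fun e => y.2.2 (hsy ▸ hq0.mpr e)
      ext a
      rw [MulAction.mem_stabilizer_iff, Subgroup.mem_subgroupOf]
      constructor
      · intro e
        refine h.stab s hs.1 hs0 a (hq0.mp ?_)
        have e' : QuotientGroup.mk' Q0 (a : L) * y.1 * (QuotientGroup.mk' Q0 (a : L))⁻¹ = y.1 :=
          congrArg Subtype.val e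
        simp only [map_mul, map_inv]
        rw [hsy, e', mul_inv_cancel]
      · intro ha
        refine Subtype.ext ?_
        show QuotientGroup.mk' Q0 (a : L) * y.1 * (QuotientGroup.mk' Q0 (a : L))⁻¹ = y.1
        rw [← hsy, ← mul_inv_eq_one, ← map_inv, ← map_mul, ← map_mul, ← map_inv, ← map_mul]
        exact hq0.mpr (h.comm _ ha s hs.1)
    have h1 := semiregular_dvd _ hst
    have h2 := card_nontriv (B.map (QuotientGroup.mk' Q0))
    rwa [show q ^ d - 1 = Nat.card X by rw [← hd, ← h2, Nat.add_sub_cancel]]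
  have hprod : Q.relIndex E * E.index = Q.index := Subgroup.relIndex_mul_index hQE
  have hqn : q ^ n - 1 = Q.index := by omega
  have b1 := gcd_bound hq.out.one_lt hl_lt hl0 (hqn ▸ Dvd.intro_left _ hprod) hr
  have b2 := gcd_bound hq.out.one_lt hdn hd0 (hqn ▸ Dvd.intro _ hprod) hs
  have h2n : q ^ (n / 2) * q ^ (n / 2) ≤ q ^ n := by
    rw [← pow_add]; exact Nat.pow_le_pow_right hq.out.pos (by omega)
  have hpos : q ≤ q ^ (n / 2) := Nat.le_self_pow (by omega) q
  have hq2 := hq.out.two_le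
  obtain ⟨w, hw⟩ : ∃ w, q ^ (n / 2) = w + 2 := ⟨q ^ (n / 2) - 2, by omega⟩
  rw [hw] at b1 b2 h2n
  have hmul : Q.index ≤ (w + 1) * (w + 1) := hprod ▸ Nat.mul_le_mul (by omega) (by omega)
  nlinarith

/-- `Q0` is central in `Q`. -/
theorem TwoStep.central {q : ℕ} [Fact q.Prime] {Q Q0 : Subgroup L} (h : TwoStep q Q Q0) :
    ⁅Q0, Q⁆ = ⊥ := by
  classical
  suffices H : ∀ (n : ℕ) (L : Type u) [Group L] [Finite L] (Q Q0 : Subgroup L), Nat.card L = n →
      TwoStep q Q Q0 → ⁅Q0, Q⁆ = ⊥ from H _ L Q Q0 rfl h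
  intro n
  induction n using Nat.strong_induction_on with
  | _ n ih =>
  intro L _ _ Q Q0 hcard h
  by_contra hR
  haveI := h.normal
  haveI := h.normal0
  have hRQ0 : ⁅Q0, Q⁆ ≤ Q0 := Subgroup.commutator_le_left _ _
  obtain ⟨Z, ⟨hZn, hZle, hZne⟩, hZmin⟩ := (Set.toFinite
    {Z : Subgroup L | Z.Normal ∧ Z ≤ ⁅Q0, Q⁆ ∧ Z ≠ ⊥}).exists_minimal
      ⟨⁅Q0, Q⁆, Subgroup.commutator_normal _ _, le_rfl, hR⟩
  haveI := hZn
  have hlt : Nat.card (L ⧸ Z) < n := by
    rw [← hcard, ← Subgroup.index_eq_card, ← Z.index_mul_card]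
    exact lt_mul_of_one_lt_right (Nat.pos_of_ne_zero Subgroup.index_ne_zero_of_finite)
      ((Subgroup.one_lt_card_iff_ne_bot _).mpr hZne)
  have := ih _ hlt (L ⧸ Z) _ _ rfl (h.map Z (hZle.trans hRQ0))
  rw [← Subgroup.map_commutator, Subgroup.map_eq_bot_iff, QuotientGroup.ker_mk'] at this
  have hZeq : Z = ⁅Q0, Q⁆ := le_antisymm hZle this
  exact h.core hR fun Z' hn hle hne => le_antisymm hle
    (hZeq ▸ hZmin ⟨hn, hle, hne⟩ (hZeq ▸ hle))

/-- Exponent bound. -/
theorem TwoStep.pow_sq {q : ℕ} [Fact q.Prime] {Q Q0 : Subgroup L} (h : TwoStep q Q Q0) {x : L}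
    (hx : x ∈ Q) : x ^ (q * q) = 1 := by
  have hc : Q0 ≤ Subgroup.centralizer (Q : Set L) :=
    Subgroup.commutator_eq_bot_iff_le_centralizer.mp h.central
  obtain ⟨x1, hx1, hx10⟩ := SetLike.exists_of_lt h.lt
  have h1 : ∀ k ∈ Q0, k ^ q = 1 := fun k hk => by
    obtain ⟨c, hcQ, e⟩ := h.cam x1 hx1 hx10 k hk
    have hkc : ∀ y ∈ Q, y * k = k * y := fun y hy => Subgroup.mem_centralizer_iff.mp (hc hk) y hy
    have h2 : ∀ j : ℕ, c ^ j * x1 * (c ^ j)⁻¹ = x1 * k ^ j := by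
      intro j
      induction j with
      | zero => simp
      | succ j ih =>
        calc c ^ (j + 1) * x1 * (c ^ (j + 1))⁻¹ = c * (c ^ j * x1 * (c ^ j)⁻¹) * c⁻¹ := by
              rw [pow_succ']; group
          _ = (c * x1) * (k ^ j * c⁻¹) := by rw [ih]; group
          _ = (c * x1) * (c⁻¹ * k ^ j) := by
              rw [((show Commute c k from hkc c hcQ).pow_right j).inv_left.eq]
          _ = x1 * k ^ (j + 1) := by rw [← mul_assoc, e, mul_assoc, ← pow_succ']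
    have h3 := h2 q
    rw [← Subgroup.mem_centralizer_iff.mp (hc (h.exp c hcQ)) x1 hx1, mul_inv_cancel_right] at h3
    exact (mul_eq_left.mp h3.symm)
  rw [pow_mul]
  exact h1 _ (h.exp x hx)

end Cfsg.Agent.Char.OneSeen
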