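import Mathlib
import Cfsg.Agent.Lib.Grp.Coprime

/-!
A finite group normalized by an element whose fourth power centralizes it and which fixes only the
identity is solvable (Gorenstein-Herstein), by an elementary counting argument.
-/

set_option autoImplicit false

namespace Cfsg.Agent.Char.OneSeen

open Subgroup Cfsg.Agent.Grp

universe u

variable {G : Type u} [Group G] [Finite G] (W : Subgroup G) (t : G)

/-- The hypotheses. -/
structure FpfFour : Prop where
  norm : t ∈ Subgroup.normalizer (W : Set G)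
  four : t ^ 4 = 1
  fpf : ∀ w ∈ W, t * w * t⁻¹ = w → w = 1

/-- Inverted part. -/
def invPart (W : Subgroup G) (t : G) : Set G := {a | a ∈ W ∧ t * (t * a * t⁻¹) * t⁻¹ = a⁻¹}

/-- Fixed part of the square. -/
def fixPart (W : Subgroup G) (t : G) : Subgroup G where
  carrier := {y | y ∈ W ∧ t * (t * y * t⁻¹) * t⁻¹ = y}
  one_mem' := ⟨W.one_mem, by group⟩
  mul_mem' {a b} ha hb := ⟨W.mul_mem ha.1 hb.1, by
    calc t * (t * (a * b) * t⁻¹) * t⁻¹
        = (t * (t * a * t⁻¹) * t⁻¹) * (t * (t * b * t⁻¹) * t⁻¹) := by simp [mul_assoc]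
      _ = a * b := by rw [ha.2, hb.2]⟩
  inv_mem' {a} ha := ⟨W.inv_mem ha.1, by
    calc t * (t * a⁻¹ * t⁻¹) * t⁻¹ = (t * (t * a * t⁻¹) * t⁻¹)⁻¹ := by simp [mul_assoc]
      _ = a⁻¹ := by rw [ha.2]⟩

theorem pow_card_mem {W : Subgroup G} {z : G} (hz : z ∈ W) : z ^ Nat.card W = 1 :=
  congrArg Subtype.val (pow_card_eq_one' (x := (⟨z, hz⟩ : W)))

variable {W t} (h : FpfFour W t)
include h

local notation:max "σ " x:max => (t * x * t⁻¹)

theorem FpfFour.map_mem {w : G} (hw : w ∈ W) : t * w * t⁻¹ ∈ W :=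
  Grp.mem_conj_normalizer h.norm hw

theorem FpfFour.four_apply (x : G) : σ (σ (σ (σ x))) = x := by
  have h4 : t * t * t * t = 1 := by
    rw [← h.four]; simp [pow_succ, mul_assoc]
  calc σ (σ (σ (σ x))) = (t * t * t * t) * x * (t * t * t * t)⁻¹ := by simp [mul_assoc]
    _ = x := by rw [h4]; simp

theorem FpfFour.exists_div {x : G} (hx : x ∈ W) : ∃ v ∈ W, v⁻¹ * σ v = x := by
  let f : W → W := fun v =>
    ⟨(v : G)⁻¹ * σ v, W.mul_mem (W.inv_mem v.2) (h.map_mem v.2)⟩
  have finj : Function.Injective f := by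
    intro a b e
    have e' : (a : G)⁻¹ * (t * a * t⁻¹) = (b : G)⁻¹ * (t * b * t⁻¹) := congrArg Subtype.val e
    refine Subtype.ext ?_
    have : t * ((b : G) * (a : G)⁻¹) * t⁻¹ = (b : G) * (a : G)⁻¹ := by
      have h2 : t * (a : G) * t⁻¹ = a * (b : G)⁻¹ * (t * b * t⁻¹) := by
        calc t * (a : G) * t⁻¹ = a * ((a : G)⁻¹ * (t * a * t⁻¹)) := by group
          _ = _ := by rw [e']; group
      calc t * ((b : G) * (a : G)⁻¹) * t⁻¹ = (t * b * t⁻¹) * (t * a * t⁻¹)⁻¹ := by group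
        _ = (b : G) * (a : G)⁻¹ := by rw [h2]; group
    exact (mul_inv_eq_one.mp (h.fpf _ (W.mul_mem b.2 (W.inv_mem a.2)) this)).symm
  obtain ⟨v, hv⟩ := Finite.surjective_of_injective finj ⟨x, hx⟩
  exact ⟨v, v.2, congrArg Subtype.val hv⟩

/-- The product over an orbit is trivial. -/
theorem FpfFour.orbit_prod {x : G} (hx : x ∈ W) : x * σ x * σ (σ x) * σ (σ (σ x)) = 1 := by
  obtain ⟨v, -, rfl⟩ := h.exists_div hx
  have h4 := h.four_apply v
  calc _ = v⁻¹ * σ (σ (σ (σ v))) := by group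
    _ = 1 := by rw [h4, inv_mul_cancel]

theorem FpfFour.inverted {y : G} (hy : y ∈ W) (hfix : σ (σ y) = y) : σ y = y⁻¹ := by
  let C := {v : G // v ∈ W ∧ σ (σ v) = v}
  let f : C → C := fun v => ⟨(v.1)⁻¹ * σ v.1, W.mul_mem (W.inv_mem v.2.1) (h.map_mem v.2.1), by
    have e := v.2.2
    show σ (σ ((v.1)⁻¹ * σ v.1)) = (v.1)⁻¹ * σ v.1
    calc σ (σ ((v.1)⁻¹ * σ v.1)) = (σ (σ v.1))⁻¹ * σ (σ (σ v.1)) := by simp [mul_assoc]
      _ = (v.1)⁻¹ * σ v.1 := by rw [e]⟩
  have finj : Function.Injective f := by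
    intro a b e
    have e' : (a.1)⁻¹ * (t * a.1 * t⁻¹) = (b.1)⁻¹ * (t * b.1 * t⁻¹) := congrArg Subtype.val e
    refine Subtype.ext ?_
    have : t * (b.1 * (a.1)⁻¹) * t⁻¹ = b.1 * (a.1)⁻¹ := by
      have h2 : t * a.1 * t⁻¹ = a.1 * (b.1)⁻¹ * (t * b.1 * t⁻¹) := by
        calc t * a.1 * t⁻¹ = a.1 * ((a.1)⁻¹ * (t * a.1 * t⁻¹)) := by group
          _ = _ := by rw [e']; group
      calc t * (b.1 * (a.1)⁻¹) * t⁻¹ = (t * b.1 * t⁻¹) * (t * a.1 * t⁻¹)⁻¹ := by group
        _ = b.1 * (a.1)⁻¹ := by rw [h2]; group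
    exact (mul_inv_eq_one.mp (h.fpf _ (W.mul_mem b.2.1 (W.inv_mem a.2.1)) this)).symm
  obtain ⟨v, hv⟩ := Finite.surjective_of_injective finj ⟨y, hy, hfix⟩
  have hv' : (v.1)⁻¹ * σ v.1 = y := congrArg Subtype.val hv
  have e := v.2.2
  rw [← hv']
  calc σ ((v.1)⁻¹ * σ v.1) = (σ v.1)⁻¹ * σ (σ v.1) := by simp [mul_assoc]
    _ = ((v.1)⁻¹ * σ v.1)⁻¹ := by rw [e]; group

theorem FpfFour.odd : Odd (Nat.card W) := by
  rw [← Nat.not_even_iff_odd, even_iff_two_dvd]
  intro h2
  have : Fact (Nat.Prime 2) := ⟨Nat.prime_two⟩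
  obtain ⟨k, -, hk⟩ := (Nat.dvd_prime_pow Nat.prime_two (m := 2)).mp
    (orderOf_dvd_of_pow_eq_one (show t ^ 2 ^ 2 = 1 from h.four))
  have hA : IsPGroup 2 (Subgroup.zpowers t) :=
    IsPGroup.of_card (n := k) (by rw [Nat.card_zpowers, hk])
  have hle : Subgroup.zpowers t ≤ Subgroup.normalizer (W : Set G) := Subgroup.zpowers_le.mpr h.norm
  let _ : MulAction (Subgroup.zpowers t) W :=
    { smul := fun z v => ⟨(z : G) * v * (z : G)⁻¹, Grp.mem_conj_normalizer (hle z.2) v.2⟩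
      one_smul := fun v => Subtype.ext
        (show ((1 : Subgroup.zpowers t) : G) * v * _ = v by simp)
      mul_smul := fun x y v => Subtype.ext (show ((x * y : Subgroup.zpowers t) : G) * v * _ = _ by
        simp [HSMul.hSMul, SMul.smul, mul_assoc]) }
  obtain ⟨w, hw, hw1⟩ := hA.exists_fixed_point_of_prime_dvd_card_of_fixed_point W h2 (a := (1 : W))
    (fun z => Subtype.ext (show (z : G) * (1 : W) * _ = ((1 : W) : G) by simp))
  exact hw1 (Subtype.ext (h.fpf w w.2
    (congrArg Subtype.val (hw ⟨t, Subgroup.mem_zpowers _⟩)))).symm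

theorem FpfFour.coprime : (Nat.card (Subgroup.zpowers t)).Coprime (Nat.card W) := by
  rw [Nat.card_zpowers]
  refine Nat.Coprime.coprime_dvd_left (orderOf_dvd_of_pow_eq_one h.four) ?_
  exact Nat.Coprime.pow_left 2 (Nat.coprime_two_left.mpr h.odd)

theorem FpfFour.exists_sylow (r : ℕ) [Fact r.Prime] :
    ∃ R, IsSylowIn r R W ∧ t ∈ Subgroup.normalizer (R : Set G) ∧
      ∀ U : Subgroup G, U ≤ W → IsPGroup r U → t ∈ Subgroup.normalizer (U : Set G) → U ≤ R := by
  have hle : Subgroup.zpowers t ≤ Subgroup.normalizer (W : Set G) := Subgroup.zpowers_le.mpr h.norm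
  have hs : Group.IsSolvable (Subgroup.zpowers t) ∨ Group.IsSolvable W :=
    Or.inl (Group.isSolvable_of_comm mul_comm')
  obtain ⟨R, hR, hRt⟩ := exists_invariant_sylow _ W hle h.coprime hs r
  refine ⟨R, hR, hRt (Subgroup.mem_zpowers _), fun U hUW hU hUt => ?_⟩
  obtain ⟨X, hX, hXt, hUX⟩ := exists_invariant_sylow_ge _ W hle h.coprime hs hUW hU
    (Subgroup.zpowers_le.mpr hUt)
  obtain ⟨c, hc, rfl⟩ := invariant_sylow_conj _ W hle h.coprime hs hX hR hXt hRt
  have hc1 : c = 1 := h.fpf c hc.1 (by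
    rw [Subgroup.mem_centralizer_iff.mp hc.2 t (Subgroup.mem_zpowers _)]; group)
  rwa [hc1, map_one, one_smul]

theorem FpfFour.fix_comm {a b : G} (ha : a ∈ (fixPart W t)) (hb : b ∈ (fixPart W t)) : a * b = b * a := by
  have e := h.inverted ((fixPart W t).mul_mem ha hb).1 ((fixPart W t).mul_mem ha hb).2
  have e1 := h.inverted ha.1 ha.2
  have e2 := h.inverted hb.1 hb.2
  have : a⁻¹ * b⁻¹ = (a * b)⁻¹ := by
    rw [← e, ← e1, ← e2]; group
  rw [← inv_inj]
  rw [← this, mul_inv_rev]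

theorem FpfFour.sq_pow (n : ℕ) (a : G) : σ (σ (a ^ n)) = (σ (σ a)) ^ n := by
  simp [conj_pow]

theorem FpfFour.sq_inj {a b : G} (ha : a ∈ W) (hb : b ∈ W) (e : a ^ 2 = b ^ 2) : a = b := by
  have hc : Nat.card W = 2 * (Nat.card W / 2) + 1 := by
    obtain ⟨k, hk⟩ := h.odd; omega
  have hz : ∀ z ∈ W, (z ^ 2) ^ (Nat.card W / 2 + 1) = z := fun z hz => by
    have : z ^ Nat.card W = 1 := by
      exact pow_card_mem (by first | assumption | exact hR hkR | exact ha.1)
    rw [← pow_mul, show 2 * (Nat.card W / 2 + 1) = Nat.card W + 1 by omega, pow_succ, this, one_mul]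
  rw [← hz a ha, ← hz b hb, e]

/-- Decomposition for invariant subgroups. -/
theorem FpfFour.card_eq {R : Subgroup G} (hR : R ≤ W) (hRt : t ∈ Subgroup.normalizer (R : Set G)) :
    Nat.card R = Nat.card {a : G // a ∈ (invPart W t) ∧ a ∈ R} * Nat.card (R ⊓ (fixPart W t) : Subgroup G) := by
  let f : {a : G // a ∈ (invPart W t) ∧ a ∈ R} × (R ⊓ (fixPart W t) : Subgroup G) → R := fun z =>
    ⟨z.1.1 * z.2.1, R.mul_mem z.1.2.2 z.2.2.1⟩
  rw [← Nat.card_prod]
  refine (Nat.card_congr (Equiv.ofBijective f ⟨?_, ?_⟩)).symm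
  · rintro ⟨⟨a, ha, haR⟩, ⟨y, hy⟩⟩ ⟨⟨b, hb, hbR⟩, ⟨z, hz⟩⟩ e
    have e' : a * y = b * z := congrArg Subtype.val e
    have key : ∀ c w : G, σ (σ c) = c⁻¹ → σ (σ w) = w →
        c * w * (σ (σ (c * w)))⁻¹ = c ^ 2 := fun c w hc hw => by
      have : σ (σ (c * w)) = σ (σ c) * σ (σ w) := by simp [mul_assoc]
      rw [this, hc, hw]; simp [sq, mul_assoc]
    have h1 := key a y ha.2 hy.2.2
    rw [e', key b z hb.2 hz.2.2] at h1
    have hab : a = b := h.sq_inj ha.1 hb.1 h1.symm
    subst hab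
    have hyz := mul_left_cancel e'
    subst hyz
    rfl
  · rintro ⟨x, hx⟩
    set k := x * (σ (σ x))⁻¹ with hk
    have hk' : σ (σ k) = k⁻¹ := by
      have h4 := h.four_apply x
      calc σ (σ k) = σ (σ x) * (σ (σ (σ (σ x))))⁻¹ := by simp [hk, mul_assoc]
        _ = k⁻¹ := by rw [h4]; simp [hk, mul_assoc]
    have hkR : k ∈ R := R.mul_mem hx (R.inv_mem
      (Grp.mem_conj_normalizer hRt (Grp.mem_conj_normalizer hRt hx)))
    set e := Nat.card W / 2 + 1 with he
    have hke : k ^ e * k ^ e = k := by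
      have : k ^ Nat.card W = 1 := by
        exact pow_card_mem (by first | assumption | exact hR hkR | exact ha.1)
      have hc : Nat.card W = 2 * (Nat.card W / 2) + 1 := by
        obtain ⟨j, hj⟩ := h.odd; omega
      rw [← pow_add, show e + e = Nat.card W + 1 by omega, pow_succ, this, one_mul]
    have ha : σ (σ (k ^ e)) = (k ^ e)⁻¹ := by rw [h.sq_pow e k, hk', inv_pow]
    have hy : σ (σ ((k ^ e)⁻¹ * x)) = (k ^ e)⁻¹ * x := by
      calc σ (σ ((k ^ e)⁻¹ * x)) = (σ (σ (k ^ e)))⁻¹ * σ (σ x) := by simp [mul_assoc]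
        _ = k ^ e * k⁻¹ * x := by
            have hx2 : σ (σ x) = k⁻¹ * x := by simp [hk, mul_assoc]
            rw [ha, hx2, inv_inv, mul_assoc]
        _ = k ^ e * (k ^ e * k ^ e)⁻¹ * x := by rw [hke]
        _ = (k ^ e)⁻¹ * x := by group
    refine ⟨(⟨k ^ e, ⟨W.pow_mem (hR hkR) e, ha⟩, R.pow_mem hkR e⟩,
      ⟨(k ^ e)⁻¹ * x, R.mul_mem (R.inv_mem (R.pow_mem hkR e)) hx,
        ⟨W.mul_mem (W.inv_mem (W.pow_mem (hR hkR) e)) (hR hx), hy⟩⟩), Subtype.ext ?_⟩
    exact mul_inv_cancel_left _ _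

theorem FpfFour.inv_pow_mem {a : G} (ha : a ∈ (invPart W t)) (n : ℕ) : a ^ n ∈ (invPart W t) :=
  ⟨W.pow_mem ha.1 n, by rw [h.sq_pow n a, ha.2, inv_pow]⟩

/-- An inverted element lies in the invariant Sylow subgroup of its prime. -/
theorem FpfFour.mem_sylow {r : ℕ} [Fact r.Prime] {R : Subgroup G}
    (hmax : ∀ U : Subgroup G, U ≤ W → IsPGroup r U → t ∈ Subgroup.normalizer (U : Set G) → U ≤ R)
    {a : G} (ha : a ∈ (invPart W t)) (hr : ∃ j : ℕ, a ^ r ^ j = 1) : a ∈ R := by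
  set b := σ a with hb
  have hbb : σ b = a⁻¹ := ha.2
  have hcomm : Commute a b := by
    have h1 := h.orbit_prod ha.1
    have h3 : σ (σ (σ a)) = b⁻¹ := by rw [ha.2, hb]; simp [mul_assoc]
    rw [h3, ha.2] at h1
    change a * b * a⁻¹ * b⁻¹ = 1 at h1
    rw [mul_inv_eq_one, mul_inv_eq_iff_eq_mul] at h1
    exact h1
  set U := Subgroup.closure ({a, b} : Set G) with hU
  have hUW : U ≤ W := (Subgroup.closure_le _).mpr (by
    rintro x (rfl | rfl)
    · exact ha.1
    · exact h.map_mem ha.1)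
  have hcom : ∀ x ∈ ({a, b} : Set G), ∀ y ∈ ({a, b} : Set G), x * y = y * x := by
    rintro x (rfl | rfl) y (rfl | rfl)
    · rfl
    · exact hcomm
    · exact hcomm.symm
    · rfl
  have hUc : IsMulCommutative U := Subgroup.isMulCommutative_closure hcom
  have hUp : IsPGroup r U := by
    intro x
    obtain ⟨j, hj⟩ := hr
    have hbj : b ^ r ^ j = 1 := by rw [hb]; simp [conj_pow, hj]
    refine ⟨j, Subtype.ext ?_⟩
    have hx : (x : G) ∈ U := x.2
    show (x : G) ^ r ^ j = 1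
    refine Subgroup.closure_induction (p := fun y hy => y ^ r ^ j = 1) ?_ ?_ ?_ ?_ hx
    · rintro y (rfl | rfl)
      · exact hj
      · exact hbj
    · exact one_pow _
    · intro y z hy hz ey ez
      have : Commute y z :=
        congrArg Subtype.val (hUc.is_comm.comm (⟨y, hy⟩ : U) ⟨z, hz⟩)
      rw [this.mul_pow, ey, ez, one_mul]
    · intro y _ ey
      rw [inv_pow, ey, inv_one]
  have hUt : t ∈ Subgroup.normalizer (U : Set G) := by
    rw [mem_normalizer_iff_smul, ← map_conj_eq_smul, hU, MonoidHom.map_closure]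
    have e1 : (MulAut.conj t).toMonoidHom a = b := rfl
    have e2 : (MulAut.conj t).toMonoidHom b = a⁻¹ := hbb
    rw [Set.image_pair, e1, e2]
    refine le_antisymm ((Subgroup.closure_le _).mpr ?_) ((Subgroup.closure_le _).mpr ?_)
    · intro x hx
      rcases hx with e | e
      · rw [e]; exact Subgroup.subset_closure (Or.inr rfl)
      · rw [Set.mem_singleton_iff.mp e]
        exact Subgroup.inv_mem _ (Subgroup.subset_closure (Or.inl rfl))
    · intro x hx
      rcases hx with e | e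
      · rw [e]
        have := Subgroup.inv_mem _ (Subgroup.subset_closure
          (show a⁻¹ ∈ ({b, a⁻¹} : Set G) from Or.inr rfl))
        rwa [inv_inv] at this
      · rw [Set.mem_singleton_iff.mp e]; exact Subgroup.subset_closure (Or.inl rfl)
  exact hmax U hUW hUp hUt (Subgroup.subset_closure (by simp))

theorem FpfFour.fix_normalizes : t ∈ Subgroup.normalizer ((fixPart W t) : Set G) := by
  have key : ∀ y ∈ (fixPart W t), t * y * t⁻¹ ∈ (fixPart W t) ∧ t⁻¹ * y * t ∈ (fixPart W t) := fun y hy => by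
    have e : t * y * t⁻¹ = y⁻¹ := h.inverted hy.1 hy.2
    refine ⟨e ▸ (fixPart W t).inv_mem hy, ?_⟩
    have : t⁻¹ * y * t = y⁻¹ := by
      have e' : t * y⁻¹ * t⁻¹ = y := by
        calc t * y⁻¹ * t⁻¹ = (t * y * t⁻¹)⁻¹ := by group
          _ = y := by rw [e, inv_inv]
      conv_lhs => rw [← e']
      group
    exact this ▸ (fixPart W t).inv_mem hy
  rw [Subgroup.mem_normalizer_iff]
  intro y
  refine ⟨fun hy => (key y hy).1, fun hy => ?_⟩
  simpa [mul_assoc] using (key _ hy).2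

/-- Inverted elements in invariant Sylow subgroups for distinct primes commute. -/
theorem FpfFour.commute {r s : ℕ} (hrs : r ≠ s) {R S : Subgroup G} [Fact r.Prime] [Fact s.Prime]
    (Rf : ℕ → Subgroup G) (hRf : ∀ p : ℕ, p.Prime → IsSylowIn p (Rf p) W ∧
      t ∈ Subgroup.normalizer (Rf p : Set G) ∧
      ∀ U : Subgroup G, U ≤ W → IsPGroup p U → t ∈ Subgroup.normalizer (U : Set G) → U ≤ Rf p)
    (hR : R = Rf r) (hS : S = Rf s) {a c : G} (ha : a ∈ (invPart W t)) (haR : a ∈ R)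
    (hc : c ∈ (invPart W t)) (hcS : c ∈ S) : Commute a c := by
  classical
  rcases eq_or_ne a 1 with rfl | ha1
  · exact Commute.one_left _
  rcases eq_or_ne c 1 with rfl | hc1
  · exact Commute.one_right _
  set w := Nat.card W with hw
  let P := w.primeFactors
  let T : P → Type u := fun p => {x : G // x ∈ (invPart W t) ∧ x ∈ Rf p.1}
  let m : ℕ → ℕ := fun p => w / p ^ w.factorization p
  have hwpos : w ≠ 0 := Nat.card_pos.ne'
  have hpm : ∀ x ∈ W, ∀ p : ℕ, p.Prime → ∃ j, (x ^ m p) ^ p ^ j = 1 := fun x hx p _ => by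
    refine ⟨w.factorization p, ?_⟩
    rw [← pow_mul, Nat.div_mul_cancel (Nat.ordProj_dvd w p)]
    exact pow_card_mem (by first | assumption | exact hR hkR | exact ha.1)
  let f : {x : G // x ∈ (invPart W t) ∧ x ∈ W} → ((p : P) → T p) := fun x p =>
    ⟨x.1 ^ m p.1, h.inv_pow_mem x.2.1 _, by
      have hp := Nat.prime_of_mem_primeFactors p.2
      have := Fact.mk hp
      exact h.mem_sylow (hRf p.1 hp).2.2 (h.inv_pow_mem x.2.1 _) (hpm x.1 x.2.2 p.1 hp)⟩
  have finj : Function.Injective f := by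
    rintro ⟨x, hx, hxW⟩ ⟨y, hy, hyW⟩ e
    refine Subtype.ext ?_
    let E : AddSubgroup ℤ :=
      { carrier := {n | x ^ n = y ^ n}
        zero_mem' := by simp
        add_mem' := fun {i j} (hi : x ^ i = y ^ i) (hj : x ^ j = y ^ j) => by
          show x ^ (i + j) = y ^ (i + j)
          rw [zpow_add, zpow_add, hi, hj]
        neg_mem' := fun {i} (hi : x ^ i = y ^ i) => by
          show x ^ (-i) = y ^ (-i)
          rw [zpow_neg, zpow_neg, hi] }
    obtain ⟨d, hd⟩ := Int.subgroup_cyclic E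
    have hdvd : ∀ n : ℕ, x ^ n = y ^ n → d.natAbs ∣ n := fun n hn => by
      have : (n : ℤ) ∈ E := show x ^ (n : ℤ) = y ^ (n : ℤ) by rwa [zpow_natCast, zpow_natCast]
      rw [hd, ← AddSubgroup.zmultiples_eq_closure, Int.mem_zmultiples_iff] at this
      exact Int.natAbs_dvd_natAbs.mpr this
    have hw' : d.natAbs ∣ w := hdvd w (by
      have e1 : x ^ w = 1 := by
        exact pow_card_mem (by first | assumption | exact hR hkR | exact ha.1)
      have e2 : y ^ w = 1 := by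
        exact pow_card_mem (by first | assumption | exact hR hkR | exact ha.1)
      rw [e1, e2])
    have hd1 : d.natAbs = 1 := by
      by_contra hne
      obtain ⟨p, hp, hpd⟩ := Nat.exists_prime_and_dvd hne
      have hpP : p ∈ P := Nat.mem_primeFactors.mpr ⟨hp, hpd.trans hw', hwpos⟩
      have := hdvd (m p) (congrArg Subtype.val (congrFun e ⟨p, hpP⟩))
      exact Nat.not_dvd_ordCompl hp hwpos (hpd.trans this)
    have h1 : (1 : ℤ) ∈ E := by
      rw [hd, ← AddSubgroup.zmultiples_eq_closure, Int.mem_zmultiples_iff]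
      exact Int.natAbs_dvd.mp (by rw [hd1]; simp)
    simpa using (show x ^ (1 : ℤ) = y ^ (1 : ℤ) from h1)
  -- counting
  have hcardI : Nat.card {x : G // x ∈ (invPart W t) ∧ x ∈ W} * Nat.card (W ⊓ (fixPart W t) : Subgroup G) = w :=
    (h.card_eq le_rfl (h.norm)).symm
  have hY : Nat.card (W ⊓ (fixPart W t) : Subgroup G) ≠ 0 := Nat.card_pos.ne'
  have hTcard : ∀ p : P, Nat.card (T p) * p.1 ^ (Nat.card (W ⊓ (fixPart W t) : Subgroup G)).factorization p.1
      = p.1 ^ w.factorization p.1 := by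
    intro p
    have hp := Nat.prime_of_mem_primeFactors p.2
    have := Fact.mk hp
    obtain ⟨hSy, hnt, hmax⟩ := hRf p.1 hp
    rw [← hSy.card, h.card_eq hSy.1 hnt]
    congr 1
    obtain ⟨X, hX⟩ := exists_isSylowIn p.1 (W ⊓ (fixPart W t))
    have hXn : t ∈ Subgroup.normalizer (X : Set G) := by
      have key : ∀ y ∈ X, t * y * t⁻¹ = y⁻¹ ∧ t⁻¹ * y * t = y⁻¹ := fun y hy => by
        have hy' := (hX.1 hy).2
        have e : t * y * t⁻¹ = y⁻¹ := h.inverted hy'.1 hy'.2
        refine ⟨e, ?_⟩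
        have e' : t * y⁻¹ * t⁻¹ = y := by
          calc t * y⁻¹ * t⁻¹ = (t * y * t⁻¹)⁻¹ := by group
            _ = y := by rw [e, inv_inv]
        conv_lhs => rw [← e']
        group
      rw [Subgroup.mem_normalizer_iff]
      intro y
      refine ⟨fun hy => (key y hy).1 ▸ X.inv_mem hy, fun hy => ?_⟩
      have := X.inv_mem hy
      rw [← (key _ hy).2] at this
      simpa [mul_assoc] using this
    have hXR : X ≤ Rf p.1 := hmax X (hX.1.trans inf_le_left) hX.2.1 hXn
    have hXeq : X = Rf p.1 ⊓ (fixPart W t) := hX.eq_of_le (le_inf hXR (hX.1.trans inf_le_right))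
      (inf_le_inf_right _ hSy.1) (hSy.2.1.to_le inf_le_left)
    rw [← hXeq, hX.card]
  have hcards : Nat.card {x : G // x ∈ (invPart W t) ∧ x ∈ W} = Nat.card ((p : P) → T p) := by
    rw [Nat.card_pi]
    refine Nat.eq_of_mul_eq_mul_right (Nat.pos_of_ne_zero hY) ?_
    rw [hcardI]
    have e1 : ∏ p : P, p.1 ^ (Nat.card (W ⊓ (fixPart W t) : Subgroup G)).factorization p.1
        = Nat.card (W ⊓ (fixPart W t) : Subgroup G) := by
      rw [Finset.prod_coe_sort P (fun p => p ^ (Nat.card (W ⊓ (fixPart W t) : Subgroup G)).factorization p)]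
      conv_rhs => rw [← Nat.prod_factorization_pow_eq_self hY]
      rw [Finsupp.prod_of_support_subset _ ?_ _ (fun i _ => pow_zero i)]
      intro p hp
      rw [Nat.support_factorization] at hp
      exact Nat.primeFactors_mono (Subgroup.card_dvd_of_le inf_le_left) hwpos hp
    have e2 : ∏ p : P, p.1 ^ w.factorization p.1 = w := by
      rw [Finset.prod_coe_sort P (fun p => p ^ w.factorization p)]
      conv_rhs => rw [← Nat.prod_factorization_pow_eq_self hwpos]
      rw [Finsupp.prod, Nat.support_factorization]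
    conv_rhs => rw [← e1, ← Finset.prod_mul_distrib]
    rw [Finset.prod_congr rfl fun p _ => hTcard p, e2]
  have fsurj : Function.Surjective f :=
    ((Nat.bijective_iff_injective_and_card f).mpr ⟨finj, hcards⟩).2
  have hmemP : ∀ {p : ℕ} {X : Subgroup G} {z : G}, p.Prime → IsSylowIn p X W → z ∈ X → z ≠ 1 →
      p ∈ P := fun {p X z} hp hX hz hz1 => by
    have := Fact.mk hp
    obtain ⟨n, hn⟩ := IsPGroup.iff_card.mp hX.2.1
    rcases n with _ | n
    · exact absurd (Subgroup.mem_bot.mp ((Subgroup.card_eq_one.mp (by rw [hn, pow_zero])) ▸ hz)) hz1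
    · exact Nat.mem_primeFactors.mpr ⟨hp, (hn ▸ dvd_pow_self p n.succ_ne_zero : p ∣ Nat.card X).trans
        (Subgroup.card_dvd_of_le hX.1), hwpos⟩
  have hrp : r.Prime := Fact.out
  have hsp : s.Prime := Fact.out
  have hrP := hmemP hrp (hRf r hrp).1 (hR ▸ haR) ha1
  have hsP := hmemP hsp (hRf s hsp).1 (hS ▸ hcS) hc1
  let g : (p : P) → T p := fun p =>
    if e : p.1 = r then ⟨a, ha, by rw [e, ← hR]; exact haR⟩
    else if e' : p.1 = s then ⟨c, hc, by rw [e', ← hS]; exact hcS⟩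
    else ⟨1, ⟨W.one_mem, by simp⟩, Subgroup.one_mem _⟩
  obtain ⟨x, hx⟩ := fsurj g
  have e1 : x.1 ^ m r = a := by
    have := congrArg Subtype.val (congrFun hx ⟨r, hrP⟩)
    simpa [f, g] using this
  have e2 : x.1 ^ m s = c := by
    have := congrArg Subtype.val (congrFun hx ⟨s, hsP⟩)
    simpa [f, g, hrs.symm] using this
  rw [← e1, ← e2]
  exact Commute.pow_pow (Commute.refl _) _ _

/-- The theorem. -/
theorem FpfFour.isSolvable : Group.IsSolvable W := by
  classical
  have hex : ∀ p : ℕ, ∃ R : Subgroup G, p.Prime → IsSylowIn p R W ∧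
      t ∈ Subgroup.normalizer (R : Set G) ∧
      ∀ U : Subgroup G, U ≤ W → IsPGroup p U → t ∈ Subgroup.normalizer (U : Set G) → U ≤ R := by
    intro p
    by_cases hp : p.Prime
    · have := Fact.mk hp
      obtain ⟨R, hR⟩ := h.exists_sylow p
      exact ⟨R, fun _ => hR⟩
    · exact ⟨⊥, fun hp' => absurd hp' hp⟩
  choose Rf hRf using hex
  set w := Nat.card W with hw
  let P := w.primeFactors
  let K : P → Subgroup G := fun p => Subgroup.closure {a | a ∈ (invPart W t) ∧ a ∈ Rf p.1}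
  have hKR : ∀ p : P, K p ≤ Rf p.1 := fun p => (Subgroup.closure_le _).mpr fun a ha => ha.2
  have hcomm : Pairwise fun p q : P => ∀ x y : G, x ∈ K p → y ∈ K q → Commute x y := by
    intro p q hpq x y hx hy
    have hp := Nat.prime_of_mem_primeFactors p.2
    have hq := Nat.prime_of_mem_primeFactors q.2
    have := Fact.mk hp
    have := Fact.mk hq
    have hne : p.1 ≠ q.1 := fun e => hpq (Subtype.ext e)
    refine Subgroup.closure_induction (p := fun z _ => Commute z y) ?_ (Commute.one_left _)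
      (fun _ _ _ _ h1 h2 => h1.mul_left h2) (fun _ _ h1 => h1.inv_left) hx
    intro a ha
    refine Subgroup.closure_induction (p := fun z _ => Commute a z) ?_ (Commute.one_right _)
      (fun _ _ _ _ h1 h2 => h1.mul_right h2) (fun _ _ h1 => h1.inv_right) hy
    intro c hc
    exact h.commute hne Rf hRf rfl rfl ha.1 ha.2 hc.1 hc.2
  set F := ⨆ p : P, K p with hF
  have hFW : F ≤ W := iSup_le fun p =>
    (hKR p).trans (hRf p.1 (Nat.prime_of_mem_primeFactors p.2)).1.1
  have hFsolv : Group.IsSolvable F := by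
    have hKn : ∀ p : P, Group.IsNilpotent (K p) := fun p => by
      have hp := Nat.prime_of_mem_primeFactors p.2
      have := Fact.mk hp
      exact ((hRf p.1 hp).1.2.1.to_le (hKR p)).isNilpotent
    haveI : Group.IsNilpotent ((p : P) → K p) := inferInstance
    let φ := Subgroup.noncommPiCoprod hcomm
    have hr : φ.range = F := Subgroup.noncommPiCoprod_range
    haveI hs : Group.IsSolvable φ.range :=
      Group.isSolvable_of_surjective φ.rangeRestrict_surjective
    rwa [hr] at hs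
  -- inverted elements lie in F
  have hIF : ∀ a ∈ (invPart W t), a ∈ F := by
    intro a ha
    let m : ℕ → ℕ := fun p => w / p ^ w.factorization p
    let E : AddSubgroup ℤ :=
      { carrier := {n | a ^ n ∈ F}
        zero_mem' := by simp
        add_mem' := fun {i j} (hi : a ^ i ∈ F) (hj : a ^ j ∈ F) => by
          show a ^ (i + j) ∈ F
          rw [zpow_add]; exact F.mul_mem hi hj
        neg_mem' := fun {i} (hi : a ^ i ∈ F) => by
          show a ^ (-i) ∈ F
          rw [zpow_neg]; exact F.inv_mem hi }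
    obtain ⟨d, hd⟩ := Int.subgroup_cyclic E
    have hdvd : ∀ n : ℕ, a ^ n ∈ F → d.natAbs ∣ n := fun n hn => by
      have : (n : ℤ) ∈ E := show a ^ (n : ℤ) ∈ F by rwa [zpow_natCast]
      rw [hd, ← AddSubgroup.zmultiples_eq_closure, Int.mem_zmultiples_iff] at this
      exact Int.natAbs_dvd_natAbs.mpr this
    have ecard : a ^ w = 1 := by
      exact pow_card_mem (by first | assumption | exact hR hkR | exact ha.1)
    have hw' : d.natAbs ∣ w := hdvd w (by rw [ecard]; exact F.one_mem)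
    have hd1 : d.natAbs = 1 := by
      by_contra hne
      obtain ⟨p, hp, hpd⟩ := Nat.exists_prime_and_dvd hne
      have hpP : p ∈ P := Nat.mem_primeFactors.mpr ⟨hp, hpd.trans hw', Nat.card_pos.ne'⟩
      have := Fact.mk hp
      have hm : a ^ m p ∈ Rf p := h.mem_sylow (hRf p hp).2.2 (h.inv_pow_mem ha _)
        ⟨w.factorization p, by rw [← pow_mul, Nat.div_mul_cancel (Nat.ordProj_dvd w p), ecard]⟩
      have hmF : a ^ m p ∈ F := (le_iSup K ⟨p, hpP⟩)
        (Subgroup.subset_closure ⟨h.inv_pow_mem ha _, hm⟩)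
      exact Nat.not_dvd_ordCompl hp Nat.card_pos.ne' (hpd.trans (hdvd _ hmF))
    have h1 : (1 : ℤ) ∈ E := by
      rw [hd, ← AddSubgroup.zmultiples_eq_closure, Int.mem_zmultiples_iff]
      exact Int.natAbs_dvd.mp (by rw [hd1]; simp)
    simpa using (show a ^ (1 : ℤ) ∈ F from h1)
  -- every element
  have hdec : ∀ x ∈ W, ∃ a ∈ (invPart W t), ∃ y ∈ (fixPart W t), x = a * y := by
    intro x hx
    let f : {a : G // a ∈ (invPart W t) ∧ a ∈ W} × (W ⊓ (fixPart W t) : Subgroup G) → W := fun z =>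
      ⟨z.1.1 * z.2.1, W.mul_mem z.1.2.2 z.2.2.1⟩
    have finj : Function.Injective f := by
      rintro ⟨⟨a, ha, haR⟩, ⟨y, hy⟩⟩ ⟨⟨b, hb, hbR⟩, ⟨z, hz⟩⟩ e
      have e' : a * y = b * z := congrArg Subtype.val e
      have key : ∀ c u : G, σ (σ c) = c⁻¹ → σ (σ u) = u →
          c * u * (σ (σ (c * u)))⁻¹ = c ^ 2 := fun c u hc hu => by
        have : σ (σ (c * u)) = σ (σ c) * σ (σ u) := by simp [mul_assoc]
        rw [this, hc, hu]; simp [sq, mul_assoc]
      have h1 := key a y ha.2 hy.2.2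
      rw [e', key b z hb.2 hz.2.2] at h1
      have hab : a = b := h.sq_inj ha.1 hb.1 h1.symm
      subst hab
      have hyz := mul_left_cancel e'
      subst hyz
      rfl
    have hc : Nat.card ({a : G // a ∈ (invPart W t) ∧ a ∈ W} × (W ⊓ (fixPart W t) : Subgroup G)) = Nat.card W := by
      rw [Nat.card_prod]; exact (h.card_eq le_rfl h.norm).symm
    obtain ⟨z, hz⟩ := ((Nat.bijective_iff_injective_and_card f).mpr ⟨finj, hc⟩).2 ⟨x, hx⟩
    exact ⟨z.1.1, z.1.2.1, z.2.1, z.2.2.2, (congrArg Subtype.val hz).symm⟩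
  have hnorm : W ≤ Subgroup.normalizer (F : Set G) := by
    intro x hx
    obtain ⟨a, ha, y, hy, rfl⟩ := hdec x hx
    refine Subgroup.mul_mem _ (Subgroup.le_normalizer (hIF a ha)) ?_
    have hY : ∀ z ∈ (fixPart W t), F.map (MulAut.conj z).toMonoidHom ≤ F := by
      intro z hz
      rw [hF, Subgroup.map_iSup]
      refine iSup_le fun p => ?_
      rw [MonoidHom.map_closure, Subgroup.closure_le]
      rintro _ ⟨c, hc, rfl⟩
      refine hIF _ ⟨W.mul_mem (W.mul_mem hz.1 hc.1.1) (W.inv_mem hz.1), ?_⟩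
      show σ (σ (z * c * z⁻¹)) = (z * c * z⁻¹)⁻¹
      calc σ (σ (z * c * z⁻¹)) = σ (σ z) * σ (σ c) * (σ (σ z))⁻¹ := by simp [mul_assoc]
        _ = (z * c * z⁻¹)⁻¹ := by rw [hz.2, hc.1.2]; group
    rw [Subgroup.mem_normalizer_iff]
    intro z
    refine ⟨fun hz => hY y hy ⟨z, hz, rfl⟩, fun hz => ?_⟩
    have := hY y⁻¹ ((fixPart W t).inv_mem hy) ⟨_, hz, rfl⟩
    simpa [mul_assoc] using this
  haveI : (F.subgroupOf W).Normal := Subgroup.normal_subgroupOf_of_le_normalizer hnorm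
  refine (Group.isSolvable_iff_subgroup_quotient (F.subgroupOf W)).mpr ⟨?_, ?_⟩
  · exact isSolvable_of_injective (Subgroup.subgroupOfEquivOfLe hFW).toMonoidHom
      (MulEquiv.injective _) hFsolv
  · refine Group.isSolvable_of_comm fun u v => ?_
    obtain ⟨⟨u, hu⟩, rfl⟩ := QuotientGroup.mk_surjective u
    obtain ⟨⟨v, hv⟩, rfl⟩ := QuotientGroup.mk_surjective v
    obtain ⟨a, ha, y, hy, rfl⟩ := hdec u hu
    obtain ⟨b, hb, z, hz, rfl⟩ := hdec v hv
    have key : ∀ (c : G) (hc : c ∈ (invPart W t)) (d : G) (hd : c * d ∈ W) (hd' : d ∈ W),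
        ((⟨c * d, hd⟩ : W) : W ⧸ F.subgroupOf W) = ((⟨d, hd'⟩ : W) : W ⧸ F.subgroupOf W) := by
      intro c hc d hd hd'
      rw [show (⟨c * d, hd⟩ : W) = ⟨c, hc.1⟩ * ⟨d, hd'⟩ from rfl, QuotientGroup.mk_mul,
        (QuotientGroup.eq_one_iff (⟨c, hc.1⟩ : W)).mpr (Subgroup.mem_subgroupOf.mpr (hIF c hc)),
        one_mul]
    rw [key a ha y hu hy.1, key b hb z hv hz.1, ← QuotientGroup.mk_mul, ← QuotientGroup.mk_mul]
    exact congrArg _ (Subtype.ext (h.fix_comm hy hz))

end Cfsg.Agent.Char.OneSeen
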