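import Cfsg.Agent.Lib.Grp.Coprime
import Cfsg.Agent.Lib.Fus.CaminaPairBasic

/-!
If every element of a `q`-group outside a subgroup acts without fixed points, so do their `q`-th
powers.
-/

set_option autoImplicit false

namespace Cfsg.Agent.Char.OneSeen

open Subgroup Cfsg.Agent.Grp

universe u

variable {G : Type u} [Group G] [Finite G]

omit [Finite G] in
theorem commute_comm_mem {N : Subgroup G} {x z : G} (h : x * z * x⁻¹ * z⁻¹ ∈ N) :
    z * x * z⁻¹ * x⁻¹ ∈ N := by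
  simpa [mul_assoc] using N.inv_mem h

/-- A central step in a finite `q`-group. -/
theorem exists_step {q : ℕ} [hq : Fact q.Prime] {Q N M : Subgroup G} (hQ : IsPGroup q Q)
    (hMQ : M ≤ Q) (hNM : N < M) (hQN : Q ≤ Subgroup.normalizer (N : Set G))
    (hQM : Q ≤ Subgroup.normalizer (M : Set G)) :
    ∃ z ∈ M, z ∉ N ∧ z ^ q ∈ N ∧ ∀ x ∈ Q, x * z * x⁻¹ * z⁻¹ ∈ N := by
  classical
  let NQ := N.subgroupOf Q
  have : NQ.Normal := Subgroup.normal_subgroupOf_of_le_normalizer hQN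
  let π := QuotientGroup.mk' NQ
  let Mb := (M.subgroupOf Q).map π
  have hMQn : (M.subgroupOf Q).Normal := Subgroup.normal_subgroupOf_of_le_normalizer hQM
  have hMbn : Mb.Normal := Subgroup.Normal.map hMQn π (QuotientGroup.mk'_surjective NQ)
  obtain ⟨m, hm, hmN⟩ := SetLike.exists_of_lt hNM
  have hMb : Mb ≠ ⊥ := fun e => hmN (by
    have : π ⟨m, hMQ hm⟩ ∈ Mb := ⟨⟨m, hMQ hm⟩, hm, rfl⟩
    rw [e, Subgroup.mem_bot] at this
    exact (QuotientGroup.eq_one_iff (⟨m, hMQ hm⟩ : Q)).mp this)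
  have hQb : IsPGroup q (Q ⧸ NQ) := hQ.to_quotient NQ
  have hP : IsPGroup q (ConjAct (Q ⧸ NQ)) := hQb.of_equiv ConjAct.toConjAct
  obtain ⟨k, hk⟩ := IsPGroup.iff_card.mp (hQb.to_subgroup Mb)
  have hk0 : k ≠ 0 := fun e => hMb (Subgroup.card_eq_one.mp (by rw [hk, e, pow_zero]))
  have : Mb.Normal := hMbn
  obtain ⟨y, hy, hy1⟩ := hP.exists_fixed_point_of_prime_dvd_card_of_fixed_point Mb
    (hk ▸ dvd_pow_self q hk0) (a := (1 : Mb)) (fun c => by simp)
  have hcen : ∀ a : Q ⧸ NQ, a * (y : Q ⧸ NQ) * a⁻¹ = y := fun a => by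
    have := congrArg Subtype.val (hy (ConjAct.toConjAct a))
    rwa [ConjAct.Subgroup.val_conj_smul, ConjAct.toConjAct_smul] at this
  have hy1' : (y : Q ⧸ NQ) ≠ 1 := fun e => hy1 (Subtype.ext e.symm)
  obtain ⟨j, hj⟩ := IsPGroup.iff_orderOf.mp hQb (y : Q ⧸ NQ)
  have hj0 : j ≠ 0 := fun e => hy1' (orderOf_eq_one_iff.mp (by rw [hj, e, pow_zero]))
  obtain ⟨⟨w, hwQ⟩, hwM, hw⟩ := y.2
  refine ⟨w ^ q ^ (j - 1), M.pow_mem hwM _, fun hN => ?_, ?_, fun x hx => ?_⟩
  · have h1 : π (⟨w, hwQ⟩ ^ q ^ (j - 1)) = 1 := (QuotientGroup.eq_one_iff _).mpr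
      (Subgroup.mem_subgroupOf.mpr hN)
    rw [map_pow, hw] at h1
    have := orderOf_dvd_of_pow_eq_one h1
    rw [hj, Nat.pow_dvd_pow_iff_le_right hq.out.one_lt] at this
    omega
  · have h1 : π (⟨w, hwQ⟩ ^ (q ^ (j - 1) * q)) = 1 := by
      rw [map_pow, hw, ← pow_succ, show j - 1 + 1 = j by omega, ← hj, pow_orderOf_eq_one]
    have := Subgroup.mem_subgroupOf.mp ((QuotientGroup.eq_one_iff _).mp h1)
    rw [← pow_mul]; exact this
  · have h1 : π (⟨x, hx⟩ * ⟨w, hwQ⟩ ^ q ^ (j - 1) * (⟨x, hx⟩ : Q)⁻¹ *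
        ((⟨w, hwQ⟩ : Q) ^ q ^ (j - 1))⁻¹) = 1 := by
      rw [map_mul, map_mul, map_mul, map_inv, map_inv, map_pow, hw, ← conj_pow, hcen,
        mul_inv_cancel]
    exact Subgroup.mem_subgroupOf.mp ((QuotientGroup.eq_one_iff _).mp h1)

/-- Two operators of prime order modulo the kernel, all nontrivial products fixed-point-free. -/
theorem klein {q : ℕ} [hq : Fact q.Prime] {Y : Subgroup G} {a b : G}
    (haY : a ∈ Subgroup.normalizer (Y : Set G)) (hbY : b ∈ Subgroup.normalizer (Y : Set G))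
    (hA : IsPGroup q (Subgroup.closure ({a, b} : Set G)))
    (hcop : (Nat.card Y).Coprime q)
    (haq : a ^ q ∈ Subgroup.centralizer (Y : Set G)) (hbq : b ^ q ∈ Subgroup.centralizer (Y : Set G))
    (hab : a * b * a⁻¹ * b⁻¹ ∈ Subgroup.centralizer (Y : Set G))
    (hfpf : ∀ i j : ℕ, ¬ (q ∣ i ∧ q ∣ j) → ∀ y ∈ Y, (a ^ i * b ^ j) * y * (a ^ i * b ^ j)⁻¹ = y →
      y = 1) : Y = ⊥ := by
  classical
  by_contra hY
  set A := Subgroup.closure ({a, b} : Set G) with hAdef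
  have hAY : A ≤ Subgroup.normalizer (Y : Set G) := (Subgroup.closure_le _).mpr (by
    rintro x hx
    rcases hx with e | e
    · exact e ▸ haY
    · exact (Set.mem_singleton_iff.mp e) ▸ hbY)
  obtain ⟨k, hk⟩ := IsPGroup.iff_card.mp hA
  have hcA : (Nat.card A).Coprime (Nat.card Y) := hk ▸ (hcop.symm.pow_left k)
  obtain ⟨r, hr, hrY⟩ := Nat.exists_prime_and_dvd
    (fun e => hY (Subgroup.card_eq_one.mp e) : Nat.card Y ≠ 1)
  have := Fact.mk hr
  have hAs : Group.IsSolvable A := by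
    have := hA.isNilpotent
    infer_instance
  obtain ⟨X, hX, hXA⟩ := exists_invariant_sylow A Y hAY hcA (Or.inl hAs) r
  have hXne : X ≠ ⊥ := fun e => by
    have := hX.2.2
    rw [e] at this
    exact this (by rw [Subgroup.relIndex_bot_left]; exact hrY)
  let Z : Subgroup G := (Subgroup.center X).map X.subtype
  have hZX : Z ≤ X := Subgroup.map_subtype_le _
  have hZmem : ∀ {v : G}, v ∈ Z ↔ v ∈ X ∧ ∀ x ∈ X, x * v = v * x := fun {v} => by
    constructor
    · rintro ⟨w, hw, rfl⟩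
      exact ⟨w.2, fun x hx => congrArg Subtype.val (Subgroup.mem_center_iff.mp hw ⟨x, hx⟩)⟩
    · rintro ⟨hv, hc⟩
      exact ⟨⟨v, hv⟩, Subgroup.mem_center_iff.mpr fun x => Subtype.ext (hc x x.2), rfl⟩
  have hZne : Z ≠ ⊥ := fun e => by
    have hn : Nontrivial X := (Subgroup.nontrivial_iff_ne_bot X).mpr hXne
    have := hX.2.1.center_nontrivial
    obtain ⟨v, hv⟩ := exists_ne (1 : Subgroup.center X)
    have hm : ((v : X) : G) ∈ Z := ⟨(v : X), v.2, rfl⟩
    rw [e, Subgroup.mem_bot] at hm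
    exact hv (Subtype.ext (Subtype.ext hm))
  have hmap : ∀ c ∈ A, ∀ v ∈ Z, c * v * c⁻¹ ∈ Z := fun c hc v hv => by
    obtain ⟨hvX, hvc⟩ := hZmem.mp hv
    refine hZmem.mpr ⟨mem_conj_normalizer (hXA hc) hvX, fun x hx => ?_⟩
    have := hvc _ (mem_conj_normalizer' (hXA hc) hx)
    calc x * (c * v * c⁻¹) = c * ((c⁻¹ * x * c) * v) * c⁻¹ := by group
      _ = c * (v * (c⁻¹ * x * c)) * c⁻¹ := by rw [this]
      _ = c * v * c⁻¹ * x := by group
  have hcomm : ∀ u v : Z, u * v = v * u := fun u v => Subtype.ext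
    ((hZmem.mp v.2).2 u (hZX u.2))
  letI : CommGroup Z := { (inferInstance : Group Z) with mul_comm := hcomm }
  let act : ∀ c ∈ A, MulAut Z := fun c hc =>
    { toFun := fun v => ⟨c * v * c⁻¹, hmap c hc v v.2⟩
      invFun := fun v => ⟨c⁻¹ * v * c, by simpa using hmap c⁻¹ (A.inv_mem hc) v v.2⟩
      left_inv := fun v => Subtype.ext (by simp [mul_assoc])
      right_inv := fun v => Subtype.ext (by simp [mul_assoc])
      map_mul' := fun u v => Subtype.ext (by simp [mul_assoc]) }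
  have haA : a ∈ A := Subgroup.subset_closure (Or.inl rfl)
  have hbA : b ∈ A := Subgroup.subset_closure (Or.inr rfl)
  set α := act a haA
  set β := act b hbA
  have hpow : ∀ (c : G) (hc : c ∈ A) (n : ℕ) (v : Z),
      (((act c hc) ^ n) v : G) = c ^ n * v * (c ^ n)⁻¹ := by
    intro c hc n
    induction n with
    | zero => intro v; simp
    | succ n ih =>
      intro v
      rw [pow_succ' (act c hc), MulAut.mul_apply]
      show c * _ * c⁻¹ = _
      rw [ih, pow_succ']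
      simp [mul_assoc]
  have hcen : ∀ c ∈ Subgroup.centralizer (Y : Set G), ∀ v : Z, c * v * c⁻¹ = v := fun c hc v => by
    rw [← Subgroup.mem_centralizer_iff.mp hc v (hX.1 (hZX v.2))]
    group
  have hα : α ^ q = 1 := by
    ext v
    rw [hpow a haA q v, MulAut.one_apply]
    exact hcen _ haq v
  have hβ : β ^ q = 1 := by
    ext v
    rw [hpow b hbA q v, MulAut.one_apply]
    exact hcen _ hbq v
  have hαβ : Commute α β := by
    ext v
    rw [MulAut.mul_apply, MulAut.mul_apply]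
    show a * (b * (v : G) * b⁻¹) * a⁻¹ = b * (a * (v : G) * a⁻¹) * b⁻¹
    have h1 : (b * (a * v * a⁻¹) * b⁻¹) ∈ Z := hmap b hbA _ (hmap a haA _ v.2)
    calc a * (b * (v : G) * b⁻¹) * a⁻¹
        = (a * b * a⁻¹ * b⁻¹) * (b * (a * v * a⁻¹) * b⁻¹) * (a * b * a⁻¹ * b⁻¹)⁻¹ := by group
      _ = b * (a * (v : G) * a⁻¹) * b⁻¹ := hcen _ hab ⟨_, h1⟩
  have hfix : ∀ i j : ℕ, ¬ (q ∣ i ∧ q ∣ j) → ∀ v, (α ^ i * β ^ j) v = v → v = 1 := by
    intro i j hij v hv
    refine Subtype.ext (hfpf i j hij v (hX.1 (hZX v.2)) ?_)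
    have h1 := congrArg Subtype.val hv
    rw [MulAut.mul_apply, hpow a haA i, hpow b hbA j] at h1
    refine Eq.trans ?_ h1
    group
  obtain ⟨v, hvZ, hv⟩ := exists_prime_order_mem' hZne
  have hvq := congrArg Subtype.val
    (Cfsg.Agent.Fus.pow_eq_one_of_fpf_pair α β hα hβ hαβ hfix ⟨v, hvZ⟩)
  have hd : orderOf v ∣ q := orderOf_dvd_of_pow_eq_one hvq
  have hd' : orderOf v ∣ Nat.card Y := Subgroup.orderOf_dvd_natCard Y (hX.1 (hZX hvZ))
  exact hv (Nat.eq_one_of_dvd_coprimes hcop hd' hd)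
where
  exists_prime_order_mem' {H : Subgroup G} (hH : H ≠ ⊥) : ∃ v ∈ H, orderOf v ≠ 1 := by
    obtain ⟨v, hv, hv1⟩ := H.bot_or_exists_ne_one.resolve_left hH
    exact ⟨v, hv, fun e => hv1 (orderOf_eq_one_iff.mp e)⟩

/-- The statement on `q`-th powers. -/
theorem pow_fpf {q : ℕ} [hq : Fact q.Prime] {W Q Q0 : Subgroup G} (hQ : IsPGroup q Q)
    (hcop : (Nat.card W).Coprime q) (hQW : Q ≤ Subgroup.normalizer (W : Set G)) (hQ0 : Q0 ≤ Q)
    (hQQ0 : Q ≤ Subgroup.normalizer (Q0 : Set G))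
    (hcomm : ∀ x ∈ Q, ∀ y ∈ Q, x * y * x⁻¹ * y⁻¹ ∈ Q0) (hexp : ∀ x ∈ Q, x ^ q ∈ Q0)
    (hfpf : ∀ x ∈ Q, x ∉ Q0 → ∀ w ∈ W, x * w * x⁻¹ = w → w = 1)
    {g b : G} (hg : g ∈ Q) (hg0 : g ∉ Q0) (hb : b ∈ Q)
    (hind : ∀ i j : ℕ, g ^ i * b ^ j ∈ Q0 → q ∣ i ∧ q ∣ j) :
    ∀ w ∈ W, g ^ q * w * (g ^ q)⁻¹ = w → w = 1 := by
  classical
  have hcl : ∀ {u v : G}, u ∈ Q → v ∈ Q → IsPGroup q (Subgroup.closure ({u, v} : Set G)) :=
    fun {u v} hu hv => hQ.to_le ((Subgroup.closure_le _).mpr (by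
      intro x hx
      rcases hx with e | e
      · exact e ▸ hu
      · exact (Set.mem_singleton_iff.mp e) ▸ hv))
  have hnC : ∀ {N : Subgroup G} {x : G}, x ∈ Subgroup.normalizer (N : Set G) →
      x ∈ Subgroup.normalizer ((Subgroup.centralizer (N : Set G) : Subgroup G) : Set G) :=
    fun {N x} hx => by
      have key : ∀ {x : G}, x ∈ Subgroup.normalizer (N : Set G) → ∀ c ∈ Subgroup.centralizer
          (N : Set G), x * c * x⁻¹ ∈ Subgroup.centralizer (N : Set G) := fun {x} hx c hc => by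
        rw [Subgroup.mem_centralizer_iff] at hc ⊢
        intro n hn
        have h1 := hc _ (mem_conj_normalizer' hx hn)
        calc n * (x * c * x⁻¹) = x * ((x⁻¹ * n * x) * c) * x⁻¹ := by group
          _ = x * (c * (x⁻¹ * n * x)) * x⁻¹ := by rw [h1]
          _ = x * c * x⁻¹ * n := by group
      rw [Subgroup.mem_normalizer_iff]
      intro c
      refine ⟨key hx c, fun hc => ?_⟩
      simpa [mul_assoc] using key (Subgroup.inv_mem _ hx) _ hc
  suffices H : ∀ n : ℕ, ∀ N : Subgroup G, N ≤ Q0 → Q ≤ Subgroup.normalizer (N : Set G) →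
      Nat.card Q0 ≤ Nat.card N + n →
      ∀ w ∈ W, (∀ k ∈ N, k * w * k⁻¹ = w) → g ^ q * w * (g ^ q)⁻¹ = w → w = 1 by
    intro w hw hwq
    refine H (Nat.card Q0) ⊥ bot_le (fun x _ => ?_) (Nat.le_add_left _ _) w hw
      (fun k hk => by rw [Subgroup.mem_bot.mp hk]; simp) hwq
    rw [Subgroup.mem_normalizer_iff]
    intro y
    simp [Subgroup.mem_bot]
  intro n
  induction n using Nat.strong_induction_on with
  | _ n ih =>
  intro N hNQ0 hQN hn w hw hwN hwq
  rcases eq_or_lt_of_le hNQ0 with rfl | hlt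
  · -- the base
    set Y := W ⊓ Subgroup.centralizer (N : Set G) with hY
    have hQY : ∀ x ∈ Q, x ∈ Subgroup.normalizer (Y : Set G) := fun x hx => by
      rw [mem_normalizer_iff_smul, hY, Subgroup.smul_inf, normalizer_le_smul hQW hx,
        mem_normalizer_iff_smul.mp (hnC (hQN hx))]
    have hcent : ∀ k ∈ N, k ∈ Subgroup.centralizer (Y : Set G) := fun k hk => by
      rw [Subgroup.mem_centralizer_iff]
      intro y hy
      exact (Subgroup.mem_centralizer_iff.mp hy.2 k hk).symm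
    have := klein (q := q) (hQY g hg) (hQY b hb) (hcl hg hb)
      (hcop.coprime_dvd_left (Subgroup.card_dvd_of_le inf_le_left)) (hcent _ (hexp g hg))
      (hcent _ (hexp b hb)) (hcent _ (hcomm g hg b hb)) (fun i j hij y hy => by
        refine hfpf _ (Q.mul_mem (Q.pow_mem hg i) (Q.pow_mem hb j)) (fun h0 => hij (hind i j h0))
          y hy.1)
    have hwY : w ∈ Y := ⟨hw, Subgroup.mem_centralizer_iff.mpr fun k hk =>
      mul_inv_eq_iff_eq_mul.mp (hwN k hk)⟩
    rw [this, Subgroup.mem_bot] at hwY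
    exact hwY
  obtain ⟨z, hz, hzN, hzq, hzc⟩ := exists_step hQ hQ0 hlt hQN hQQ0
  set N' := N ⊔ Subgroup.zpowers z with hN'
  have hN'Q0 : N' ≤ Q0 := sup_le hNQ0 (Subgroup.zpowers_le.mpr hz)
  have hQN' : Q ≤ Subgroup.normalizer (N' : Set G) := by
    intro x hx
    have key : ∀ {x : G}, x ∈ Q → N'.map (MulAut.conj x).toMonoidHom ≤ N' := fun {x} hx => by
      rw [hN', Subgroup.map_sup, MonoidHom.map_zpowers]
      refine sup_le ?_ ?_
      · rintro _ ⟨k, hk, rfl⟩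
        exact Subgroup.mem_sup_left (mem_conj_normalizer (hQN hx) hk)
      · rw [Subgroup.zpowers_le]
        show x * z * x⁻¹ ∈ _
        rw [show x * z * x⁻¹ = (x * z * x⁻¹ * z⁻¹) * z by group]
        exact Subgroup.mul_mem_sup (hzc x hx) (Subgroup.mem_zpowers z)
    rw [Subgroup.mem_normalizer_iff]
    intro y
    refine ⟨fun hy => key hx ⟨y, hy, rfl⟩, fun hy => ?_⟩
    have := key (Q.inv_mem hx) ⟨_, hy, rfl⟩
    simpa [mul_assoc] using this
  have hcard : Nat.card N < Nat.card N' := by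
    refine lt_of_le_of_ne (Nat.le_of_dvd Nat.card_pos (Subgroup.card_dvd_of_le le_sup_left))
      fun e => hzN ?_
    rw [Subgroup.eq_of_le_of_card_ge (le_sup_left : N ≤ N') e.ge]
    exact Subgroup.mem_sup_right (Subgroup.mem_zpowers z)
  set Y := W ⊓ Subgroup.centralizer (N : Set G) ⊓ Subgroup.centralizer ({g ^ q} : Set G) with hY
  have hzQ : z ∈ Q := hQ0 hz
  have hN : ∀ k ∈ N, k ∈ Subgroup.centralizer (Y : Set G) := fun k hk => by
    rw [Subgroup.mem_centralizer_iff]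
    intro y hy
    exact (Subgroup.mem_centralizer_iff.mp hy.1.2 k hk).symm
  have hgq : g ^ q ∈ Subgroup.centralizer (Y : Set G) := by
    rw [Subgroup.mem_centralizer_iff]
    intro y hy
    exact Subgroup.mem_centralizer_singleton_iff.mp hy.2
  have hC1 : ∀ y ∈ Y, ∀ k ∈ N, y * k = k * y := fun y hy k hk =>
    (Subgroup.mem_centralizer_iff.mp hy.1.2 k hk).symm
  have key : ∀ x, x ∈ Q → (g ^ q) * x * (g ^ q)⁻¹ * x⁻¹ ∈ N → ∀ y ∈ Y, x * y * x⁻¹ ∈ Y := by
    intro x hx hxc y hy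
    refine ⟨⟨mem_conj_normalizer (hQW hx) hy.1.1, mem_conj_normalizer (hnC (hQN hx)) hy.1.2⟩,
      Subgroup.mem_centralizer_singleton_iff.mpr ?_⟩
    -- conjugation by `g ^ q` fixes `x * y * x⁻¹`
    have hcy : g ^ q * y * (g ^ q)⁻¹ = y :=
      mul_inv_eq_iff_eq_mul.mpr (Subgroup.mem_centralizer_singleton_iff.mp hy.2).symm
    set c := g ^ q * x * (g ^ q)⁻¹ * x⁻¹ with hc
    have h3 : g ^ q * (x * y * x⁻¹) * (g ^ q)⁻¹ = c * (x * y * x⁻¹) * c⁻¹ := by
      calc g ^ q * (x * y * x⁻¹) * (g ^ q)⁻¹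
          = (g ^ q * x * (g ^ q)⁻¹) * (g ^ q * y * (g ^ q)⁻¹) * (g ^ q * x * (g ^ q)⁻¹)⁻¹ := by group
        _ = (c * x) * y * (c * x)⁻¹ := by rw [hcy, hc]; group
        _ = c * (x * y * x⁻¹) * c⁻¹ := by group
    have hmem : x * y * x⁻¹ ∈ Subgroup.centralizer (N : Set G) :=
      mem_conj_normalizer (hnC (hQN hx)) hy.1.2
    have h4 : c * (x * y * x⁻¹) * c⁻¹ = x * y * x⁻¹ := by
      rw [Subgroup.mem_centralizer_iff.mp hmem c hxc]; group
    rw [h4, mul_inv_eq_iff_eq_mul] at h3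
    exact h3.symm
  have norm : ∀ x, x ∈ Q → (g ^ q) * x * (g ^ q)⁻¹ * x⁻¹ ∈ N →
      x ∈ Subgroup.normalizer (Y : Set G) := by
    intro x hx hxc
    have hle : Y.map (MulAut.conj x).toMonoidHom ≤ Y := by
      rintro _ ⟨y, hy, rfl⟩
      exact key x hx hxc y hy
    rw [mem_normalizer_iff_smul, ← map_conj_eq_smul]
    exact Subgroup.eq_of_le_of_card_ge hle
      (Nat.card_congr (Y.equivMapOfInjective _ (MulAut.conj x).injective).toEquiv).le
  have hfix : ∀ i j : ℕ, ¬ (q ∣ i ∧ q ∣ j) → ∀ y ∈ Y, (g ^ i * z ^ j) * y * (g ^ i * z ^ j)⁻¹ = y →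
      y = 1 := by
    intro i j hij y hy hfy
    by_cases hi : q ∣ i
    · have hj : ¬ q ∣ j := fun h => hij ⟨hi, h⟩
      obtain ⟨i', rfl⟩ := hi
      -- `z ^ j` fixes `y`
      have h0 : g ^ q * y * (g ^ q)⁻¹ = y :=
        mul_inv_eq_iff_eq_mul.mpr (Subgroup.mem_centralizer_singleton_iff.mp hy.2).symm
      have h0' : Commute ((g ^ q) ^ i') y := Commute.pow_left (mul_inv_eq_iff_eq_mul.mp h0) i'
      have hzY : z ^ j ∈ Subgroup.normalizer (Y : Set G) :=
        Subgroup.pow_mem _ (norm z hzQ (hzc _ (Q.pow_mem hg q))) j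
      have hy' : z ^ j * y * (z ^ j)⁻¹ ∈ Y := mem_conj_normalizer hzY hy
      have h1 : z ^ j * y * (z ^ j)⁻¹ = y := by
        have e : g ^ (q * i') * (z ^ j * y * (z ^ j)⁻¹) * (g ^ (q * i'))⁻¹ = y := by
          calc _ = (g ^ (q * i') * z ^ j) * y * (g ^ (q * i') * z ^ j)⁻¹ := by simp [mul_assoc]
            _ = y := hfy
        have hc' : Commute ((g ^ q) ^ i') (z ^ j * y * (z ^ j)⁻¹) :=
          Commute.pow_left (Subgroup.mem_centralizer_singleton_iff.mp hy'.2).symm i'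
        rw [pow_mul, hc'.eq, mul_inv_cancel_right] at e
        exact e
      have hco : Nat.Coprime j q := ((hq.out.coprime_iff_not_dvd).mpr hj).symm
      have hzy : z * y * z⁻¹ = y := by
        set S := Subgroup.centralizer ({y} : Set G)
        have m1 : z ^ j ∈ S := Subgroup.mem_centralizer_singleton_iff.mpr
          (mul_inv_eq_iff_eq_mul.mp h1)
        have m2 : z ^ q ∈ S := Subgroup.mem_centralizer_singleton_iff.mpr
          (hC1 y hy _ hzq).symm
        have := S.mul_mem (S.zpow_mem m1 (Nat.gcdA j q)) (S.zpow_mem m2 (Nat.gcdB j q))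
        rw [← zpow_natCast z j, ← zpow_natCast z q, ← zpow_mul, ← zpow_mul, ← zpow_add,
          ← Nat.gcd_eq_gcd_ab, hco.gcd_eq_one, Nat.cast_one, zpow_one] at this
        rw [Subgroup.mem_centralizer_singleton_iff.mp this, mul_inv_cancel_right]
      have hyN' : ∀ k ∈ N', k * y * k⁻¹ = y := by
        have hle : N' ≤ Subgroup.centralizer ({y} : Set G) := sup_le
          (fun k hk => Subgroup.mem_centralizer_singleton_iff.mpr (hC1 y hy k hk).symm)
          (Subgroup.zpowers_le.mpr (Subgroup.mem_centralizer_singleton_iff.mpr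
            (mul_inv_eq_iff_eq_mul.mp hzy)))
        intro k hk
        rw [Subgroup.mem_centralizer_singleton_iff.mp (hle hk), mul_inv_cancel_right]
      have hN'le : Nat.card N' ≤ Nat.card Q0 :=
        Nat.le_of_dvd Nat.card_pos (Subgroup.card_dvd_of_le hN'Q0)
      exact ih (Nat.card Q0 - Nat.card N') (by omega) N' hN'Q0 hQN' (by omega) y hy.1.1 hyN' h0
    · refine hfpf _ (Q.mul_mem (Q.pow_mem hg i) (Q.pow_mem hzQ j)) (fun h0 => hi ?_) y hy.1.1 hfy
      have h1 : g ^ i ∈ Q0 := by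
        have := Q0.mul_mem h0 (Q0.inv_mem (Q0.pow_mem hz j))
        simpa using this
      exact (hind i 0 (by simpa using h1)).1
  have := klein (q := q) (norm g hg (by rw [(Commute.pow_self g q).eq, mul_inv_cancel_right, mul_inv_cancel]; exact N.one_mem)) (norm z hzQ (hzc _ (Q.pow_mem hg q)))
    (hcl hg hzQ) (hcop.coprime_dvd_left (Subgroup.card_dvd_of_le
      (inf_le_left.trans inf_le_left))) hgq (hN _ hzq) (hN _ (hzc g hg)) hfix
  have hwY : w ∈ Y := ⟨⟨hw, Subgroup.mem_centralizer_iff.mpr fun k hk =>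
      mul_inv_eq_iff_eq_mul.mp (hwN k hk)⟩,
    Subgroup.mem_centralizer_singleton_iff.mpr (mul_inv_eq_iff_eq_mul.mp hwq).symm⟩
  rw [this, Subgroup.mem_bot] at hwY
  exact hwY

end Cfsg.Agent.Char.OneSeen
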