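import Cfsg.Agent.Lib.Char.OneSeen.Values
import Cfsg.Agent.Lib.Char.OneSeen.ClassTwo
import Cfsg.Agent.Lib.Char.OneSeen.OrderFour
import Cfsg.Agent.Lib.Grp.FpfPrime

/-!
A group with a noncentral element seen by exactly one nonlinear character is solvable.
-/

set_option autoImplicit false

namespace Cfsg.Agent.Char.OneSeen

open Cfsg Cfsg.Agent.Char Cfsg.Agent.Block Cfsg.Agent.Grp
open scoped commutatorElement Pointwise

universe u

section Abstract

variable {Ω : Type u} [Group Ω]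

/-- An element fixing `z` is central up to `M`. -/
theorem exists_central_translate [Finite Ω] {M : Subgroup Ω} (hM : commutator Ω ≤ M)
    (hab : ∀ a ∈ M, ∀ b ∈ M, a * b = b * a) {z : Ω} (hz : z ∈ M)
    (hzc : z ∉ Subgroup.center Ω) (hconj : ∀ m ∈ M, m ≠ 1 → IsConj z m) {a : Ω}
    (ha : a * z = z * a) : ∃ d ∈ M, d⁻¹ * a ∈ Subgroup.center Ω := by
  have hc : ∀ x y : Ω, x * y * x⁻¹ * y⁻¹ ∈ M := fun x y => hM (by
    rw [← commutatorElement_def, commutator_def]
    exact Subgroup.commutator_mem_commutator (Subgroup.mem_top x) (Subgroup.mem_top y))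
  obtain ⟨l, hl⟩ : ∃ l, l * z ≠ z * l := by
    by_contra hno
    push Not at hno
    exact hzc (Subgroup.mem_center_iff.mpr hno)
  have stab : ∀ m ∈ M, m ≠ 1 → ∀ b : Ω, (b * m = m * b ↔ b * z = z * b) := by
    intro m hm hm1 b
    obtain ⟨c, rfl⟩ := isConj_iff.mp (hconj m hm hm1)
    set v := c⁻¹ * b * c * b⁻¹ with hv
    have hvM : v ∈ M := by simpa [mul_assoc, hv] using hc c⁻¹ b
    have e : c⁻¹ * b * c = v * b := by rw [hv]; group
    have h1 : b * (c * z * c⁻¹) = c * z * c⁻¹ * b ↔ (v * b) * z = z * (v * b) := by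
      rw [← e]
      constructor
      · intro h
        calc c⁻¹ * b * c * z = c⁻¹ * (b * (c * z * c⁻¹)) * c := by group
          _ = z * (c⁻¹ * b * c) := by rw [h]; group
      · intro h
        calc b * (c * z * c⁻¹) = c * (c⁻¹ * b * c * z) * c⁻¹ := by group
          _ = c * z * c⁻¹ * b := by rw [h]; group
    rw [h1, mul_assoc v b z, ← mul_assoc z v b, hab z hz v hvM, mul_assoc v z b]
    exact mul_right_inj v
  let f : M → M := fun m => ⟨l * m * l⁻¹ * (m : Ω)⁻¹, hc l m⟩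
  have hinj : Function.Injective f := by
    intro m m' e
    have e' : l * m * l⁻¹ * (m : Ω)⁻¹ = l * m' * l⁻¹ * (m' : Ω)⁻¹ := congrArg Subtype.val e
    by_contra hne
    have h1 : (m : Ω)⁻¹ * m' ≠ 1 := fun h => hne (Subtype.ext (inv_mul_eq_one.mp h))
    refine hl ((stab _ (M.mul_mem (M.inv_mem m.2) m'.2) h1 l).mp ?_)
    have h2 : l * m' * l⁻¹ = (l * m * l⁻¹) * (m : Ω)⁻¹ * m' := by rw [e']; group
    calc l * ((m : Ω)⁻¹ * m') = (l * m * l⁻¹)⁻¹ * (l * m' * l⁻¹) * l := by group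
      _ = (m : Ω)⁻¹ * m' * l := by rw [h2]; group
  obtain ⟨⟨d, hd⟩, hde⟩ := Finite.injective_iff_surjective.mp hinj
    ⟨l * a * l⁻¹ * a⁻¹, hc l a⟩
  have hde' : l * d * l⁻¹ * d⁻¹ = l * a * l⁻¹ * a⁻¹ := congrArg Subtype.val hde
  refine ⟨d, hd, Subgroup.mem_center_iff.mpr fun x => ?_⟩
  set a' := d⁻¹ * a with ha'
  have hla : l * a' * l⁻¹ = a' := by
    calc l * a' * l⁻¹ = (l * d * l⁻¹ * d⁻¹ * d)⁻¹ * ((l * a * l⁻¹ * a⁻¹) * a) := by
          rw [ha']; group
      _ = a' := by rw [hde', ha']; group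
  have haz : a' * z = z * a' := by
    rw [ha', mul_assoc, ha, ← mul_assoc, hab _ (M.inv_mem hd) z hz, mul_assoc]
  set m := a' * x * a'⁻¹ * x⁻¹ with hm
  have hmM : m ∈ M := hc a' x
  set u := l * x * l⁻¹ * x⁻¹ with hu
  have huM : u ∈ M := hc l x
  have hau : a' * u = u * a' := by
    rcases eq_or_ne u 1 with e | e
    · simp [e]
    · exact (stab u huM e a').mpr haz
  have hlm : l * m = m * l := by
    calc l * m = (l * a' * l⁻¹) * (u * x) * (l * a' * l⁻¹)⁻¹ * (u * x)⁻¹ * l := by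
          rw [hm, hu]; group
      _ = (a' * u) * x * a'⁻¹ * x⁻¹ * u⁻¹ * l := by rw [hla]; group
      _ = u * m * u⁻¹ * l := by rw [hau, hm]; group
      _ = m * l := by rw [hab u huM m hmM]; group
  have h1 : m = 1 := by
    by_contra hne
    exact hl ((stab m hmM hne l).mp hlm)
  rw [hm, mul_inv_eq_one, mul_inv_eq_iff_eq_mul] at h1
  exact h1.symm

theorem comm_mul_left {z : Ω} (hz : z ∈ Subgroup.center Ω)
    (hcom : ∀ x y : Ω, x * y * x⁻¹ * y⁻¹ = 1 ∨ x * y * x⁻¹ * y⁻¹ = z) (a b t : Ω) :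
    (a * b) * t * (a * b)⁻¹ * t⁻¹ = (b * t * b⁻¹ * t⁻¹) * (a * t * a⁻¹ * t⁻¹) := by
  have hcen : b * t * b⁻¹ * t⁻¹ ∈ Subgroup.center Ω := by
    rcases hcom b t with e | e <;> rw [e]
    exacts [Subgroup.one_mem _, hz]
  have h1 := Subgroup.mem_center_iff.mp hcen a
  calc (a * b) * t * (a * b)⁻¹ * t⁻¹
      = (a * (b * t * b⁻¹ * t⁻¹)) * t * a⁻¹ * t⁻¹ := by group
    _ = _ := by rw [h1]; group

/-- Adjusting an element to commute with a non-commuting pair. -/
theorem exists_adjust {z : Ω} (hz : z ∈ Subgroup.center Ω) (hz2 : z * z = 1)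
    (hcom : ∀ x y : Ω, x * y * x⁻¹ * y⁻¹ = 1 ∨ x * y * x⁻¹ * y⁻¹ = z) {u v : Ω}
    (huv : u * v * u⁻¹ * v⁻¹ = z) (w : Ω) :
    ∃ e, (e = 1 ∨ e = u ∨ e = v ∨ e = u * v) ∧
      (w * e) * u * (w * e)⁻¹ * u⁻¹ = 1 ∧ (w * e) * v * (w * e)⁻¹ * v⁻¹ = 1 := by
  have hb := comm_mul_left hz hcom
  have hvu : v * u * v⁻¹ * u⁻¹ = z := by
    have : (u * v * u⁻¹ * v⁻¹)⁻¹ = v * u * v⁻¹ * u⁻¹ := by group
    rw [← this, huv, inv_eq_of_mul_eq_one_left hz2]
  have hs : ∀ a : Ω, a * a * a⁻¹ * a⁻¹ = 1 := fun a => by group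
  rcases hcom w u with h1 | h1 <;> rcases hcom w v with h2 | h2
  · exact ⟨1, Or.inl rfl, by rw [mul_one]; exact h1, by rw [mul_one]; exact h2⟩
  · exact ⟨u, Or.inr (Or.inl rfl), by rw [hb, hs, h1, one_mul], by rw [hb, huv, h2, hz2]⟩
  · exact ⟨v, Or.inr (Or.inr (Or.inl rfl)), by rw [hb, hvu, h1, hz2], by rw [hb, hs, h2, one_mul]⟩
  · exact ⟨u * v, Or.inr (Or.inr (Or.inr rfl)), by rw [hb, hb u v u, hvu, hs, h1, mul_one, hz2],
      by rw [hb, hb u v v, hs, huv, h2, one_mul, hz2]⟩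

theorem eq_bot_of_le_commutator [Group.IsNilpotent Ω] {K : Subgroup Ω}
    (hK : K ≤ ⁅K, (⊤ : Subgroup Ω)⁆) : K = ⊥ := by
  obtain ⟨n, hn⟩ := (Subgroup.nilpotent_iff_lowerCentralSeries (G := Ω)).mp inferInstance
  refine eq_bot_iff.mpr (hn ▸ ?_)
  clear hn
  induction n with
  | zero => rw [Subgroup.lowerCentralSeries_zero]; exact le_top
  | succ n ih =>
    rw [Subgroup.lowerCentralSeries_succ]
    exact hK.trans (Subgroup.commutator_mono ih le_rfl)

theorem mk_commute_iff {K : Subgroup Ω} [K.Normal] {x y : Ω} :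
    QuotientGroup.mk' K x * QuotientGroup.mk' K y = QuotientGroup.mk' K y * QuotientGroup.mk' K x ↔
      x * y * x⁻¹ * y⁻¹ ∈ K := by
  rw [← commutatorElement_eq_one_iff_mul_comm, ← map_commutatorElement, commutatorElement_def]
  exact QuotientGroup.eq_one_iff _

theorem central_comm {k l p r : Ω} (hk : k ∈ Subgroup.center Ω) (hl : l ∈ Subgroup.center Ω) :
    (k * p) * (l * r) * (k * p)⁻¹ * (l * r)⁻¹ = p * r * p⁻¹ * r⁻¹ := by
  have hkl : k * l ∈ Subgroup.center Ω := Subgroup.mul_mem _ hk hl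
  calc (k * p) * (l * r) * (k * p)⁻¹ * (l * r)⁻¹
      = k * (p * l) * r * p⁻¹ * k⁻¹ * r⁻¹ * l⁻¹ := by group
    _ = (k * l) * (p * r * p⁻¹ * k⁻¹ * r⁻¹ * l⁻¹) := by
        rw [Subgroup.mem_center_iff.mp hl p]; group
    _ = (k * l) * (p * r * p⁻¹ * (r⁻¹ * k⁻¹) * l⁻¹) := by
        rw [Subgroup.mem_center_iff.mp (Subgroup.inv_mem _ hk) r⁻¹]; group
    _ = ((p * r * p⁻¹ * r⁻¹) * (k * l)) * k⁻¹ * l⁻¹ := by
        rw [Subgroup.mem_center_iff.mp hkl (p * r * p⁻¹ * r⁻¹)]
        group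
    _ = (p * r * p⁻¹ * r⁻¹) * (k * (l * k⁻¹) * l⁻¹) := by group
    _ = p * r * p⁻¹ * r⁻¹ := by
        rw [← Subgroup.mem_center_iff.mp hl k⁻¹]; group

end Abstract

variable {G : Type u} [Group G] [Fintype G] {g : G} {χ : IrrCharacter G} (h : Seen g χ)
include h

/-- An element central modulo the kernel lies in the derived subgroup. -/
theorem Seen.mem_of_central {a : G} (ha : ∀ x : G, a * x * a⁻¹ * x⁻¹ ∈ h.ker) :
    a ∈ commutator G := by
  by_contra hno
  obtain ⟨c, hc, hcs⟩ := IsIrr.exists_scalar χ.2 (z := a) fun x => h.mem_ker.mp (ha x)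
  have h1 := hcs 1
  rw [mul_one, h.vanish hno] at h1
  rcases mul_eq_zero.mp h1.symm with e | e
  · simp [e] at hc
  · exact IsIrr.one_ne_zero χ.2 e

theorem Seen.pow_mem {q : ℕ} (hq : g ^ q ∈ h.ker) {x : G} (hx : x ∈ commutator G) :
    x ^ q ∈ h.ker := by
  rcases h.ker_or_conj hx with hk | hc
  · exact h.ker.pow_mem hk q
  · obtain ⟨c, rfl⟩ := isConj_iff.mp hc
    rw [conj_pow]
    exact h.ker_normal.conj_mem _ hq c

/-- The normal `q`-complement of the derived subgroup. -/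
theorem Seen.complement {q m : ℕ} [hq : Fact q.Prime] (hm : orderOf g = q ^ m)
    (hgq : g ^ q ∈ h.ker) :
    ∃ (P : Sylow q G) (W : Subgroup G), g ∈ P ∧ W.Normal ∧ W ≤ h.ker ∧
      (Nat.card W).Coprime q ∧ ∀ x ∈ commutator G, ∃ j, x ^ q ^ j ∈ W := by
  classical
  haveI := h.ker_normal
  obtain ⟨P, hP⟩ := IsPGroup.exists_le_sylow (P := Subgroup.zpowers g)
    (IsPGroup.of_card (n := m) (by rw [Nat.card_zpowers, hm]))
  set H := (P : Subgroup G) ⊔ commutator G with hH
  have hDH : commutator G ≤ H := le_sup_right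
  have hHn : H.Normal := ⟨fun x hx c => by
    have : c * x * c⁻¹ * x⁻¹ ∈ H := hDH (by
      rw [← commutatorElement_def, commutator_def]
      exact Subgroup.commutator_mem_commutator (Subgroup.mem_top c) (Subgroup.mem_top x))
    simpa using H.mul_mem this hx⟩
  have hgH : g ∈ H := Subgroup.mem_sup_left (hP (Subgroup.mem_zpowers g))
  have hidx : ¬ q ∣ H.index := fun e =>
    P.not_dvd_index (e.trans (Subgroup.index_dvd_of_le le_sup_left))
  have hpow : ∀ x ∈ H, ∃ j, x ^ q ^ j ∈ h.ker := fun x hx => by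
    obtain ⟨y, hy, z, hz, rfl⟩ := Subgroup.mem_sup_of_normal_right.mp hx
    obtain ⟨j, hj⟩ := P.isPGroup' ⟨y, hy⟩
    have hyj : y ^ q ^ j = 1 := congrArg Subtype.val hj
    refine ⟨j + 1, ?_⟩
    rw [pow_succ, pow_mul]
    refine h.pow_mem hgq ((QuotientGroup.eq_one_iff _).mp ?_)
    rw [QuotientGroup.mk_pow, QuotientGroup.mk_mul, (QuotientGroup.eq_one_iff z).mpr hz, mul_one,
      ← QuotientGroup.mk_pow, hyj, QuotientGroup.mk_one]
  have hcopK : ∀ x ∈ H, (orderOf x).Coprime q → x ∈ h.ker := fun x hx hc => by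
    obtain ⟨j, hj⟩ := hpow x hx
    obtain ⟨k, hk⟩ := exists_pow_eq_self_of_coprime (n := q ^ j) (x := x)
      ((hc.pow_right j).symm)
    exact hk ▸ h.ker.pow_mem hj k
  haveI := Fintype.ofFinite H
  have hdeg : ∀ φ : IrrCharacter H, charDegree (φ : H → ℂ) ≠ 1 →
      q ∣ charDegree (φ : H → ℂ) := by
    intro φ hφ
    by_cases hk : ∀ k : H, (k : G) ∈ h.ker → (φ : H → ℂ) k = (φ : H → ℂ) 1
    · have hle : h.ker.subgroupOf H ≤ irrKer φ := fun k hk' => mem_irrKer.mpr (hk k hk')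
      have hp : IsPGroup q (H ⧸ h.ker.subgroupOf H) := fun z => by
        obtain ⟨⟨x, hx⟩, rfl⟩ := QuotientGroup.mk_surjective z
        obtain ⟨j, hj⟩ := hpow x hx
        exact ⟨j, by rw [← QuotientGroup.mk_pow, QuotientGroup.eq_one_iff]; exact hj⟩
      obtain ⟨e, he⟩ := IsPGroup.iff_card.mp hp
      rw [← Subgroup.index_eq_card] at he
      have hd := (charDeg_dvd_index φ).trans ((Subgroup.index_dvd_of_le hle).trans he.dvd)
      obtain ⟨i, -, hi⟩ := (Nat.dvd_prime_pow hq.out).mp hd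
      rw [hi]
      exact dvd_pow_self _ fun e0 => hφ (by rw [hi, e0, pow_zero])
    · push Not at hk
      obtain ⟨k, hkK, hk⟩ := hk
      have hψ : IsCharacter G (indFun H (φ : H → ℂ)) := isCharacter_indFun H (irr_isChar φ)
      have hzero : indFun H (φ : H → ℂ) g = 0 := by
        obtain ⟨a, ha, hd⟩ := IsChar.exists_decomp_inner hψ
        rw [congrFun hd g, sum_irr_apply]
        refine Finset.sum_eq_zero fun χ' _ => ?_
        by_cases hz : classInner (indFun H (φ : H → ℂ)) (χ' : G → ℂ) = 0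
        · rw [show (a χ' : ℂ) = 0 by rw [← ha, hz], zero_mul]
        · rw [h.eq_zero hkK (ψ := χ') fun e => hk ?_, mul_zero]
          rw [classInner_indFun H (φ : H → ℂ) (IsIrr.classFun χ'.2)] at hz
          refine constituent_ker (IsChar.res (irr_isChar χ') H) φ.2 (fun e0 => hz ?_)
            (by simpa using e)
          rw [← classInner_conj_symm, e0, map_zero]
      obtain ⟨M, hM⟩ := exists_isPModular q hq.out
      have hmem := IsChar.sub_degree_mem hψ hM (g := g) ⟨m, hm⟩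
      have h1 : indFun H (φ : H → ℂ) 1 = ((H.index * charDegree (φ : H → ℂ) : ℕ) : ℂ) := by
        rw [indFun_one_eq, charDeg_spec' φ, Nat.cast_mul]
      have e : (⟨indFun H (φ : H → ℂ) g, IsChar.isIntegral hψ g⟩ : AlgInt) -
          ⟨indFun H (φ : H → ℂ) 1, IsChar.isIntegral hψ 1⟩ =
          -((H.index * charDegree (φ : H → ℂ) : ℕ) : AlgInt) := by
        apply Subtype.val_injective
        simp [hzero, h1]
      rw [e, neg_mem_iff, natCast_mem_iff hM] at hmem
      exact (hq.out.dvd_mul.mp hmem).resolve_left hidx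
  obtain ⟨N0, hN0, hN0c, k, hk⟩ := Cfsg.Agent.S4456.result (G := H) q hq.out hdeg
  have hW : ∀ {x : G}, x ∈ N0.map H.subtype ↔ x ∈ H ∧ (orderOf x).Coprime q := fun {x} => by
    constructor
    · rintro ⟨⟨y, hy⟩, hy0, rfl⟩
      refine ⟨hy, Nat.Coprime.coprime_dvd_left ?_ hN0c⟩
      show orderOf y ∣ _
      rw [← Subgroup.orderOf_mk y hy]
      exact Subgroup.orderOf_dvd_natCard N0 hy0
    · rintro ⟨hx, hc⟩
      have h1 := Subgroup.pow_index_mem N0 (⟨x, hx⟩ : H)
      rw [hk] at h1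
      obtain ⟨j, hj⟩ := exists_pow_eq_self_of_coprime (n := q ^ k) (x := (⟨x, hx⟩ : H))
        (by rw [Subgroup.orderOf_mk]; exact (hc.pow_right k).symm)
      exact ⟨⟨x, hx⟩, hj ▸ N0.pow_mem h1 j, rfl⟩
  refine ⟨P, N0.map H.subtype, hP (Subgroup.mem_zpowers g), ⟨fun x hx c => hW.mpr
    ⟨hHn.conj_mem x (hW.mp hx).1 c, ?_⟩⟩, fun x hx => hcopK x (hW.mp hx).1 (hW.mp hx).2, ?_,
    fun x hx => ⟨k, ?_⟩⟩
  · rw [show orderOf (c * x * c⁻¹) = orderOf x from MulEquiv.orderOf_eq (MulAut.conj c) x]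
    exact (hW.mp hx).2
  · rwa [Subgroup.card_map_of_injective H.subtype_injective]
  · exact ⟨⟨x, hDH hx⟩ ^ q ^ k, hk ▸ Subgroup.pow_index_mem N0 _, rfl⟩

/-- Order of the derived subgroup modulo the kernel. -/
theorem Seen.card_map [hn : h.ker.Normal] :
    Nat.card ((commutator G).map (QuotientGroup.mk' h.ker)) = h.ker.relIndex (commutator G) := by
  refine Nat.eq_of_mul_eq_mul_right (Nat.card_pos (α := h.ker)) ?_
  rw [quot_card h.ker_le, ← Subgroup.relIndex_bot_left, ← Subgroup.relIndex_bot_left, mul_comm,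
    Subgroup.relIndex_mul_relIndex _ _ _ bot_le h.ker_le]

/-- The complement is solvable when the index is not two. -/
theorem Seen.solvable_big {q m n : ℕ} [hq : Fact q.Prime] (hm : orderOf g = q ^ m)
    (hgq : g ^ q ∈ h.ker) (hn : h.ker.relIndex (commutator G) = q ^ n) (hn1 : 1 ≤ n)
    (hN : q ^ n ≠ 2) {P : Sylow q G} (hgP : g ∈ P) {W : Subgroup G} (hWn : W.Normal)
    (hWK : W ≤ h.ker) (hcop : (Nat.card W).Coprime q)
    (hpow : ∀ x ∈ commutator G, ∃ j, x ^ q ^ j ∈ W) : Group.IsSolvable W := by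
  classical
  haveI := h.ker_normal
  set D := commutator G with hD
  set K := h.ker with hK
  set π := QuotientGroup.mk' K with hπ
  have hπ1 : ∀ {x : G}, π x = 1 ↔ x ∈ K := fun {x} => QuotientGroup.eq_one_iff x
  have hs : Function.Surjective π := QuotientGroup.mk'_surjective K
  have hqn : 2 < q ^ n := by
    have : q ≤ q ^ n := Nat.le_self_pow (by omega) q
    have := hq.out.two_le
    omega
  have hMcard : Nat.card (D.map π) = q ^ n := h.card_map.trans hn
  have hMc : commutator (G ⧸ K) ≤ D.map π := by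
    rw [hD, commutator_def, commutator_def, Subgroup.map_commutator,
      Subgroup.map_top_of_surjective π hs]
  have hab : ∀ a ∈ D.map π, ∀ b ∈ D.map π, a * b = b * a := by
    rintro _ ⟨a, ha, rfl⟩ _ ⟨b, hb, rfl⟩
    exact mk_commute_iff.mpr (h.comm_mod hn ha hb)
  have hconj : ∀ y ∈ D.map π, y ≠ 1 → IsConj (π g) y := by
    rintro _ ⟨y, hy, rfl⟩ hy1
    exact π.map_isConj ((h.ker_or_conj hy).resolve_left fun e => hy1 (hπ1.mpr e))
  have hzc : π g ∉ Subgroup.center (G ⧸ K) := fun hc => by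
    have hsub : ((D.map π : Subgroup (G ⧸ K)) : Set (G ⧸ K)) ⊆ {1, π g} := fun y hy => by
      by_cases hy1 : y = 1
      · exact Or.inl hy1
      · obtain ⟨c, hc'⟩ := isConj_iff.mp (hconj y hy hy1)
        refine Or.inr ?_
        rw [← hc', Subgroup.mem_center_iff.mp hc c, mul_inv_cancel_right]
        rfl
    have h1 := Set.ncard_le_ncard hsub
    rw [← Nat.card_coe_set_eq] at h1
    have h2 : ({1, π g} : Set (G ⧸ K)).ncard ≤ 2 :=
      (Set.ncard_insert_le _ _).trans (by rw [Set.ncard_singleton])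
    have h3 : Nat.card ((D.map π : Subgroup (G ⧸ K)) : Set (G ⧸ K)) = q ^ n := hMcard
    omega
  have hT : ∀ a : G, a * g * a⁻¹ * g⁻¹ ∈ K → a ∈ D := fun a ha => by
    obtain ⟨d, ⟨d0, hd0, rfl⟩, hd⟩ := exists_central_translate hMc hab
      ⟨g, h.g_mem, rfl⟩ hzc hconj (mk_commute_iff.mpr ha)
    have h1 : d0⁻¹ * a ∈ D := h.mem_of_central fun x => mk_commute_iff.mp (by
      rw [map_mul, map_inv]
      exact (Subgroup.mem_center_iff.mp hd _).symm)
    simpa using D.mul_mem hd0 h1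
  have hT' : ∀ x ∈ D, x ∉ K → ∀ a : G, a * x * a⁻¹ * x⁻¹ ∈ K → a ∈ D := fun x hx hx0 a ha => by
    obtain ⟨e, rfl⟩ := isConj_iff.mp ((h.ker_or_conj hx).resolve_left hx0)
    have h1 : e⁻¹ * a * e ∈ D := hT _ (by
      simpa [mul_assoc] using h.ker_normal.conj_mem _ ha e⁻¹)
    simpa [mul_assoc] using (inferInstance : (commutator G).Normal).conj_mem _ h1 e
  -- the index of the derived subgroup
  have hA : D.index + 1 = q ^ n := by
    let X := {y : G ⧸ K // y ∈ D.map π ∧ y ≠ 1}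
    letI : MulAction (⊤ : Subgroup G) X := conjNontriv ⊤ D Subgroup.le_normalizer_of_normal π
    let x1 : X := ⟨π g, ⟨g, h.g_mem, rfl⟩, fun e => h.g_not_ker (hπ1.mp e)⟩
    have horb : MulAction.orbit (⊤ : Subgroup G) x1 = Set.univ := Set.eq_univ_of_forall fun y => by
      obtain ⟨c, hc⟩ := isConj_iff.mp (hconj y.1 y.2.1 y.2.2)
      obtain ⟨c, rfl⟩ := hs c
      exact ⟨⟨c, Subgroup.mem_top c⟩, Subtype.ext hc⟩
    have hst : MulAction.stabilizer (⊤ : Subgroup G) x1 = D.subgroupOf ⊤ := by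
      ext a
      rw [MulAction.mem_stabilizer_iff, Subgroup.mem_subgroupOf]
      constructor
      · intro e
        have e' : π (a : G) * π g * (π (a : G))⁻¹ = π g := congrArg Subtype.val e
        exact hT a (mk_commute_iff.mp (mul_inv_eq_iff_eq_mul.mp e'))
      · intro ha
        refine Subtype.ext ?_
        show π (a : G) * π g * (π (a : G))⁻¹ = π g
        exact mul_inv_eq_iff_eq_mul.mpr (hab _ ⟨_, ha, rfl⟩ _ ⟨g, h.g_mem, rfl⟩)
    have h1 := MulAction.index_stabilizer (⊤ : Subgroup G) x1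
    rw [horb, Set.ncard_univ, hst] at h1
    rw [show (D.subgroupOf ⊤).index = D.index from Subgroup.relIndex_top_right D] at h1
    rw [h1, ← hMcard]
    exact card_nontriv _
  have hc : Nat.card (Subgroup.centralizer ({g} : Set G)) = q ^ n := by
    have h1 := h.card_cent
    rw [← hD, ← hK, hn] at h1
    rw [show q ^ n - 1 = D.index by omega, mul_comm] at h1
    exact Nat.eq_of_mul_eq_mul_left (Nat.pos_of_ne_zero Subgroup.index_ne_zero_of_finite) h1
  -- the Sylow subgroup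
  set Q := (P : Subgroup G) with hQdef
  have hQ : IsPGroup q Q := P.isPGroup'
  have hQD : Q ≤ D := fun x hx => by
    obtain ⟨j, hj⟩ := hQ ⟨x, hx⟩
    have hj' : x ^ q ^ j = 1 := congrArg Subtype.val hj
    have hco : (D.index).Coprime q := by
      rw [Nat.coprime_comm, hq.out.coprime_iff_not_dvd]
      intro hd
      have h2 : q ∣ D.index + 1 := hA ▸ dvd_pow_self q (by omega)
      exact hq.out.not_dvd_one ((Nat.dvd_add_right hd).mp h2)
    obtain ⟨k, hk⟩ := exists_pow_eq_self_of_coprime (x := x) (n := D.index)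
      ((hco.pow_right j).coprime_dvd_right (orderOf_dvd_of_pow_eq_one hj'))
    exact hk ▸ D.pow_mem (Subgroup.pow_index_mem D x) k
  have hWD : W ≤ D := hWK.trans h.ker_le
  have hcopQ : (Nat.card Q).Coprime (Nat.card W) := by
    obtain ⟨e, he⟩ := IsPGroup.iff_card.mp hQ
    rw [he]
    exact (hcop.pow_right e).symm
  have hQW : Q ⊓ W = ⊥ := inf_eq_bot_of_coprime hcopQ
  have hfpf : ∀ y ∈ D, y ∉ K → ∀ w ∈ W, y * w * y⁻¹ = w → w = 1 := fun y hy hy0 w hw e =>
    h.comm_trick hm (hWK hw) hy hy0 (hcop.coprime_dvd_left (Subgroup.orderOf_dvd_natCard W hw))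
      (mul_inv_eq_iff_eq_mul.mp e).symm
  have hDeq : D ≤ W ⊔ Q := by
    have hsup : W ⊔ Q ≤ D := sup_le hWD hQD
    have h1 : (W ⊔ Q).relIndex D ∣ W.relIndex D :=
      ⟨_, by rw [mul_comm, Subgroup.relIndex_mul_relIndex _ _ _ le_sup_left hsup]⟩
    have h2 : (W ⊔ Q).relIndex D ∣ Q.relIndex D :=
      ⟨_, by rw [mul_comm, Subgroup.relIndex_mul_relIndex _ _ _ le_sup_right hsup]⟩
    have hp : IsPGroup q (D ⧸ W.subgroupOf D) := fun z => by
      obtain ⟨⟨x, hx⟩, rfl⟩ := QuotientGroup.mk_surjective z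
      obtain ⟨j, hj⟩ := hpow x hx
      exact ⟨j, by rw [← QuotientGroup.mk_pow, QuotientGroup.eq_one_iff]; exact hj⟩
    obtain ⟨e, he⟩ := IsPGroup.iff_card.mp hp
    rw [← Subgroup.index_eq_card] at he
    have h3 : (W ⊔ Q).relIndex D ∣ q ^ e := he ▸ h1
    obtain ⟨i, -, hi⟩ := (Nat.dvd_prime_pow hq.out).mp h3
    rcases i with _ | i
    · exact Subgroup.relIndex_eq_one.mp (by rw [hi, pow_zero])
    · exact absurd (((hi ▸ dvd_pow_self q i.succ_ne_zero : q ∣ (W ⊔ Q).relIndex D).trans h2).trans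
        (Subgroup.relIndex_dvd_index_of_le hQD)) P.not_dvd_index
  have hdec : ∀ x ∈ D, ∃ w ∈ W, ∃ t ∈ Q, w * t = x := fun x hx =>
    Subgroup.mem_sup_of_normal_left.mp (hDeq hx)
  have hexp : ∀ x ∈ Q, x ^ q ∈ Q ⊓ K := fun x hx => ⟨Q.pow_mem hx q, h.pow_mem hgq (hQD hx)⟩
  have hcomm : ∀ x ∈ Q, ∀ y ∈ Q, x * y * x⁻¹ * y⁻¹ ∈ Q ⊓ K := fun x hx y hy =>
    ⟨Q.mul_mem (Q.mul_mem (Q.mul_mem hx hy) (Q.inv_mem hx)) (Q.inv_mem hy),
      h.comm_mod hn (hQD hx) (hQD hy)⟩
  -- the exponent of the Sylow subgroup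
  have hord : g ^ (q * q) = 1 := by
    set L := Subgroup.normalizer (Q : Set G) with hL
    have hstab : ∀ x ∈ Q, x ∉ K → ∀ a ∈ L, a ∈ D → a ∈ Q := fun x hx hx0 a ha haD => by
      obtain ⟨w, hw, t, ht, rfl⟩ := hdec a haD
      have hwL : w ∈ L := by
        simpa using L.mul_mem ha (L.inv_mem (Subgroup.le_normalizer ht))
      have h1 := mem_centralizer_of_normalizes (A := Q) (K := W)
        Subgroup.le_normalizer_of_normal hQW hw hwL
      have h2 : w = 1 := hfpf x (hQD hx) hx0 w hw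
        (mul_inv_eq_iff_eq_mul.mpr (Subgroup.mem_centralizer_iff.mp h1 x hx))
      rwa [h2, one_mul]
    have hts : TwoStep q (Q.subgroupOf L) ((Q ⊓ K).subgroupOf L) := by
      refine ⟨Subgroup.normal_subgroupOf_of_le_normalizer le_rfl, ⟨fun x hx a => ?_⟩,
        hQ.comap_subtype, ?_, fun x hx => ?_, fun x hx y hy => hcomm _ hx _ hy, ?_, ?_, ?_, ?_⟩
      · exact ⟨mem_conj_normalizer a.2 hx.1, h.ker_normal.conj_mem _ hx.2 a⟩
      · refine lt_of_le_of_ne (fun x hx => hx.1) fun e => h.g_not_ker ?_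
        have : (⟨g, Subgroup.le_normalizer hgP⟩ : L) ∈ Q.subgroupOf L := hgP
        rw [← e] at this
        exact this.2
      · exact hexp _ hx
      · rw [commutator_def, Subgroup.commutator_le]
        intro a _ b _
        refine hstab g hgP h.g_not_ker _ (⁅a, b⁆ : L).2 ?_
        show ⁅(a : G), (b : G)⁆ ∈ D
        rw [hD, commutator_def]
        exact Subgroup.commutator_mem_commutator (Subgroup.mem_top (a : G)) (Subgroup.mem_top (b : G))
      · intro x hx' hx0 y hy' hy0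
        have hx : (x : G) ∈ Q := hx'
        have hy : (y : G) ∈ Q := hy'
        have hx0' : (x : G) ∉ K := fun e => hx0 ⟨hx, e⟩
        have hy0' : (y : G) ∉ K := fun e => hy0 ⟨hy, e⟩
        obtain ⟨e, he⟩ := isConj_iff.mp (((h.ker_or_conj (hQD hx)).resolve_left hx0').symm.trans
          ((h.ker_or_conj (hQD hy)).resolve_left hy0'))
        have hQS : IsSylowIn q Q D :=
          ⟨hQD, hQ, fun hd => P.not_dvd_index (hd.trans (Subgroup.relIndex_dvd_index_of_le hQD))⟩
        have hQS' : IsSylowIn q (MulAut.conj e • Q) D := hQS.smul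
          (mem_normalizer_iff_smul.mp (Subgroup.le_normalizer_of_normal (Subgroup.mem_top e)))
        obtain ⟨d, hd, hd'⟩ := hQS'.conj hQS
        have hde : d * e ∈ L := by
          rw [hL, mem_normalizer_iff_smul, ← conj_smul_conj_smul, hd']
        refine ⟨⟨d * e, hde⟩, ⟨?_, ?_⟩⟩
        · exact Q.mul_mem (mem_conj_normalizer hde hx) (Q.inv_mem hy)
        · show d * e * (x : G) * (d * e)⁻¹ * (y : G)⁻¹ ∈ K
          rw [show d * e * (x : G) * (d * e)⁻¹ * (y : G)⁻¹ =
            d * (e * (x : G) * e⁻¹) * d⁻¹ * (y : G)⁻¹ by group, he]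
          exact h.comm_mod hn hd (hQD hy)
      · intro x hx hx0 a ha
        have hx0' : (x : G) ∉ K := fun e => hx0 ⟨hx, e⟩
        exact hstab x hx hx0' a a.2 (hT' x (hQD hx) hx0' a ha.2)
      · intro x hx' hx0 k hk'
        have hx : (x : G) ∈ Q := hx'
        have hk : (k : G) ∈ Q ⊓ K := hk'
        have hx0' : (x : G) ∉ K := fun e => hx0 ⟨hx, e⟩
        have hxk : (x : G) * k ∉ K := fun e => hx0' (by simpa using K.mul_mem e (K.inv_mem hk.2))
        have hxkD : (x : G) * k ∈ D := D.mul_mem (hQD hx) (hQD hk.1)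
        obtain ⟨c, hc⟩ := isConj_iff.mp (((h.ker_or_conj (hQD hx)).resolve_left hx0').symm.trans
          ((h.ker_or_conj hxkD).resolve_left hxk))
        have hcD : c ∈ D := hT' x (hQD hx) hx0' c (by
          rw [hc]; exact h.ker_normal.conj_mem _ hk.2 x)
        obtain ⟨w, hw, t, ht, rfl⟩ := hdec c hcD
        refine ⟨⟨t, Subgroup.le_normalizer ht⟩, ht, Subtype.ext ?_⟩
        show t * (x : G) * t⁻¹ = (x : G) * k
        have hy : t * (x : G) * t⁻¹ ∈ Q := Q.mul_mem (Q.mul_mem ht hx) (Q.inv_mem ht)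
        set y := t * (x : G) * t⁻¹ with hy'
        have hc' : w * y * w⁻¹ = (x : G) * k := by rw [← hc, hy']; group
        have h1 : w * y * w⁻¹ * y⁻¹ ∈ Q ⊓ W := by
          refine ⟨?_, ?_⟩
          · rw [hc']; exact Q.mul_mem (Q.mul_mem hx hk.1) (Q.inv_mem hy)
          · simpa [mul_assoc] using W.mul_mem hw (hWn.conj_mem _ (W.inv_mem hw) y)
        rw [hQW, Subgroup.mem_bot, hc', mul_inv_eq_one] at h1
        exact h1.symm
    exact congrArg Subtype.val (hts.pow_sq
      (x := (⟨g, Subgroup.le_normalizer hgP⟩ : L)) hgP)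
  have key : ∀ b : G, b ^ q = 1 → (∀ w ∈ W, b * w * b⁻¹ = w → w = 1) →
      Group.IsSolvable W := fun b hb hbf => by
    haveI := hWn
    refine @IsNilpotent.to_isSolvable _ _ (isNilpotent_of_fpf hb
      (Subgroup.le_normalizer_of_normal (Subgroup.mem_top b)) (eq_bot_iff.mpr fun w hw => ?_))
    rw [Subgroup.mem_bot]
    exact hbf w hw.1
      (mul_inv_eq_iff_eq_mul.mpr (Subgroup.mem_centralizer_singleton_iff.mp hw.2).symm)
  by_cases hg1 : g ^ q = 1
  · exact key g hg1 (hfpf g h.g_mem h.g_not_ker)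
  -- now `g` has order `q ^ 2`
  have hog : orderOf g = q ^ 2 := orderOf_eq_prime_pow (n := 1) (by rwa [pow_one])
    (by rw [show q ^ (1 + 1) = q * q by ring]; exact hord)
  have hn2 : 2 ≤ n := by
    have h1 : q ^ 2 ∣ q ^ n := by
      rw [← hog, ← hc]
      exact Subgroup.orderOf_dvd_natCard _ (Subgroup.mem_centralizer_singleton_iff.mpr rfl)
    exact (Nat.pow_dvd_pow_iff_le_right hq.out.one_lt).mp h1
  have hπg : orderOf (π g) = q := orderOf_eq_prime (by rw [← map_pow]; exact hπ1.mpr hgq)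
    fun e => h.g_not_ker (hπ1.mp e)
  obtain ⟨b, hb, hb0⟩ : ∃ b ∈ Q, π b ∉ Subgroup.zpowers (π g) := by
    by_contra hno
    push Not at hno
    have hle : D.map π ≤ Subgroup.zpowers (π g) := by
      rintro _ ⟨x, hx, rfl⟩
      obtain ⟨w, hw, t, ht, rfl⟩ := hdec x hx
      rw [map_mul, hπ1.mpr (hWK hw), one_mul]
      exact hno t ht
    have h1 := Nat.le_of_dvd Nat.card_pos (Subgroup.card_dvd_of_le hle)
    rw [Nat.card_zpowers, hπg, hMcard] at h1
    have h2 : q ^ 2 ≤ q ^ n := Nat.pow_le_pow_right hq.out.pos hn2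
    have h3 : q * 2 ≤ q ^ 2 := by rw [pow_two]; exact Nat.mul_le_mul_left q hq.out.two_le
    have := hq.out.pos
    omega
  haveI := hWn
  refine key (g ^ q) (by rw [← pow_mul]; exact hord) (pow_fpf (Q0 := Q ⊓ K) hQ hcop
    Subgroup.le_normalizer_of_normal inf_le_left ?_ hcomm hexp
    (fun x hx hx0 => hfpf x (hQD hx) fun e => hx0 ⟨hx, e⟩) hgP (fun e => h.g_not_ker e.2) hb ?_)
  · intro x hx
    rw [mem_normalizer_iff_smul, Subgroup.smul_inf, conj_smul_eq_self_of_mem hx,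
      mem_normalizer_iff_smul.mp (Subgroup.le_normalizer_of_normal (Subgroup.mem_top x))]
  · intro i j hij
    have h1 : π g ^ i * π b ^ j = 1 := by
      rw [← map_pow, ← map_pow, ← map_mul]; exact hπ1.mpr hij.2
    have hbq : π b ^ q = 1 := by rw [← map_pow]; exact hπ1.mpr (h.pow_mem hgq (hQD hb))
    have hqj : q ∣ j := by
      by_contra hj
      obtain ⟨k, hk⟩ := exists_pow_eq_self_of_coprime (x := π b) (n := j)
        (((hq.out.coprime_iff_not_dvd.mpr hj).symm).coprime_dvd_right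
          (orderOf_dvd_of_pow_eq_one hbq))
      refine hb0 (hk ▸ Subgroup.pow_mem _ ?_ k)
      rw [eq_inv_of_mul_eq_one_right h1]
      exact Subgroup.inv_mem _ (Subgroup.pow_mem _ (Subgroup.mem_zpowers _) i)
    refine ⟨?_, hqj⟩
    obtain ⟨j', rfl⟩ := hqj
    rw [pow_mul, hbq, one_pow, mul_one] at h1
    exact hπg ▸ orderOf_dvd_of_pow_eq_one h1

/-- The complement is solvable when the index is two. -/
theorem Seen.solvable_two {m : ℕ} (hm : orderOf g = 2 ^ m) (hgq : g ^ 2 ∈ h.ker)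
    (hn : h.ker.relIndex (commutator G) = 2) {W : Subgroup G} (hWn : W.Normal)
    (hWK : W ≤ h.ker) (hcop : (Nat.card W).Coprime 2)
    (hpow : ∀ x ∈ commutator G, ∃ j, x ^ 2 ^ j ∈ W) : Group.IsSolvable W := by
  classical
  haveI : Fact (Nat.Prime 2) := ⟨Nat.prime_two⟩
  haveI := h.ker_normal
  haveI := hWn
  set D := commutator G with hD
  set K := h.ker with hK
  set π := QuotientGroup.mk' K with hπ
  have hπ1 : ∀ {x : G}, π x = 1 ↔ x ∈ K := fun {x} => QuotientGroup.eq_one_iff x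
  have hs : Function.Surjective π := QuotientGroup.mk'_surjective K
  set z := π g with hz
  have hz1 : z ≠ 1 := fun e => h.g_not_ker (hπ1.mp e)
  have hz2 : z * z = 1 := by rw [hz, ← map_mul, ← pow_two]; exact hπ1.mpr hgq
  have hDz : ∀ x ∈ D, π x = 1 ∨ π x = z := fun x hx => by
    have hsub : ({1, z} : Set (G ⧸ K)) ⊆ ((D.map π : Subgroup (G ⧸ K)) : Set (G ⧸ K)) := by
      rintro y (rfl | rfl)
      · exact Subgroup.one_mem _
      · exact ⟨g, h.g_mem, rfl⟩
    have h1 := Set.eq_of_subset_of_ncard_le hsub (by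
      rw [← Nat.card_coe_set_eq, Set.ncard_pair hz1.symm]
      exact (h.card_map.trans hn).le) (Set.toFinite _)
    have h2 : π x ∈ ({1, z} : Set (G ⧸ K)) := h1 ▸ (⟨x, hx, rfl⟩ : π x ∈ D.map π)
    exact h2
  have hDK : ∀ x ∈ D, x ∉ K → π x = z := fun x hx hx0 =>
    (hDz x hx).resolve_left fun e => hx0 (hπ1.mp e)
  have hzc : z ∈ Subgroup.center (G ⧸ K) := by
    rw [Subgroup.mem_center_iff]
    intro y
    obtain ⟨c, rfl⟩ := hs y
    have h1 : π (c * g * c⁻¹) = z := hDK _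
      ((inferInstance : (commutator G).Normal).conj_mem _ h.g_mem c)
      (h.conj_not_ker (isConj_iff.mpr ⟨c, rfl⟩))
    rw [map_mul, map_mul, map_inv, mul_inv_eq_iff_eq_mul] at h1
    exact h1
  have hcD : ∀ x y : G, x * y * x⁻¹ * y⁻¹ ∈ D := fun x y => by
    rw [← commutatorElement_def, hD, commutator_def]
    exact Subgroup.commutator_mem_commutator (Subgroup.mem_top x) (Subgroup.mem_top y)
  have hcom : ∀ a b : G ⧸ K, a * b * a⁻¹ * b⁻¹ = 1 ∨ a * b * a⁻¹ * b⁻¹ = z := fun a b => by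
    obtain ⟨x, rfl⟩ := hs a
    obtain ⟨y, rfl⟩ := hs b
    simpa only [map_mul, map_inv] using hDz _ (hcD x y)
  have hsq : ∀ x : G, x ^ 2 ∈ D := fun x => h.mem_of_central fun y => by
    refine hπ1.mp ?_
    rw [pow_two]
    simp only [map_mul, map_inv]
    rw [comm_mul_left hzc hcom]
    rcases hcom (π x) (π y) with e | e <;> rw [e]
    exacts [one_mul _, hz2]
  -- the order of `g` divides the index
  have hdvd : 2 ^ m ∣ D.index := by
    obtain ⟨x, hx⟩ : ∃ x : G, x ^ 2 ∉ K := by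
      by_contra hno
      push Not at hno
      have hinv : ∀ x : G, π x * π x = 1 := fun x => by
        rw [← map_mul, ← pow_two]; exact hπ1.mpr (hno x)
      refine h.g_not_ker ((show D ≤ K from ?_) h.g_mem)
      rw [hD, commutator_def, Subgroup.commutator_le]
      intro a _ b _
      rw [commutatorElement_def]
      refine mk_commute_iff.mp ?_
      have h1 := hinv (a * b)
      rw [map_mul] at h1
      rw [eq_inv_of_mul_eq_one_left h1, mul_inv_rev, inv_eq_of_mul_eq_one_left (hinv a),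
        inv_eq_of_mul_eq_one_left (hinv b)]
    obtain ⟨e, he⟩ := isConj_iff.mp ((h.ker_or_conj (hsq x)).resolve_left hx).symm
    have hy : (e * x * e⁻¹) ^ 2 = g := by rw [conj_pow]; exact he
    set y := e * x * e⁻¹
    have hm1 : 1 ≤ m := Nat.pos_of_ne_zero fun e0 =>
      h.g_ne_one (orderOf_eq_one_iff.mp (by rw [hm, e0, pow_zero]))
    have hoy : orderOf y = 2 ^ m * 2 := by
      have h2 : 2 ∣ orderOf y := by
        refine (dvd_pow_self 2 (by omega : m ≠ 0)).trans ?_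
        rw [← hm, ← hy]
        exact orderOf_pow_dvd 2
      have h3 := orderOf_pow_of_dvd (two_ne_zero) h2
      rw [hy, hm] at h3
      rw [h3, Nat.div_mul_cancel h2]
    have h1 : orderOf y ∣ Nat.card (Subgroup.centralizer ({g} : Set G)) :=
      Subgroup.orderOf_dvd_natCard _ (Subgroup.mem_centralizer_singleton_iff.mpr (by
        rw [← hy, ← pow_succ, ← pow_succ']))
    have h2 := h.card_cent
    rw [← hD, ← hK, hn, show 2 - 1 = 1 from rfl, mul_one] at h2
    rw [hoy, h2] at h1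
    exact Nat.dvd_of_mul_dvd_mul_right two_pos h1
  have hfpf : ∀ w ∈ W, g * w * g⁻¹ = w → w = 1 := fun w hw e =>
    h.comm_trick hm (hWK hw) h.g_mem h.g_not_ker
      (hcop.coprime_dvd_left (Subgroup.orderOf_dvd_natCard W hw))
      (mul_inv_eq_iff_eq_mul.mp e).symm
  have key : g ^ 4 = 1 → Group.IsSolvable W := fun h4 => FpfFour.isSolvable (t := g)
    ⟨Subgroup.le_normalizer_of_normal (Subgroup.mem_top g), h4, hfpf⟩
  by_cases hA : D.index ≤ 4
  · refine key (orderOf_dvd_iff_pow_eq_one.mp ?_)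
    rw [hm]
    have h1 : 2 ^ m ≤ 2 ^ 2 :=
      (Nat.le_of_dvd (Nat.pos_of_ne_zero Subgroup.index_ne_zero_of_finite) hdvd).trans hA
    exact pow_dvd_pow 2 ((Nat.pow_le_pow_iff_right (by norm_num : 1 < 2)).mp h1)
  push Not at hA
  -- the large case
  set R := ⁅K, (⊤ : Subgroup G)⁆ with hR
  haveI : R.Normal := Subgroup.commutator_normal _ _
  set π2 := QuotientGroup.mk' R with hπ2
  set S := (Subgroup.centralizer ({π2 g} : Set (G ⧸ R))).comap π2 with hS
  have hKc : ∀ k ∈ K, π2 k ∈ Subgroup.center (G ⧸ R) := fun k hk => by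
    rw [Subgroup.mem_center_iff]
    intro y
    obtain ⟨y, rfl⟩ := QuotientGroup.mk'_surjective R y
    refine (mk_commute_iff.mpr ?_).symm
    rw [← commutatorElement_def, hR]
    exact Subgroup.commutator_mem_commutator hk (Subgroup.mem_top y)
  have lem : ∀ w p r : G, p * r * p⁻¹ * r⁻¹ ∉ K → π w * π p * (π w)⁻¹ * (π p)⁻¹ = 1 →
      π w * π r * (π w)⁻¹ * (π r)⁻¹ = 1 → w ∈ S := by
    intro w p r hpr hp hr
    simp only [← map_mul, ← map_inv, hπ1] at hp hr
    set k1 := w * p * w⁻¹ * p⁻¹ with hk1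
    set k2 := w * r * w⁻¹ * r⁻¹ with hk2
    set c := p * r * p⁻¹ * r⁻¹ with hc
    have h1 : π2 (w * c * w⁻¹) = π2 c := by
      rw [show w * c * w⁻¹ = (k1 * p) * (k2 * r) * (k1 * p)⁻¹ * (k2 * r)⁻¹ by
        rw [hk1, hk2, hc]; group]
      simp only [map_mul, map_inv, hc]
      exact central_comm (hKc k1 hp) (hKc k2 hr)
    have hk : g⁻¹ * c ∈ K := hπ1.mp (by
      rw [map_mul, map_inv, hDK c (hcD p r) hpr, inv_mul_cancel])
    rw [hS, Subgroup.mem_comap, Subgroup.mem_centralizer_singleton_iff]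
    have h2 : π2 c = π2 g * π2 (g⁻¹ * c) := by rw [← map_mul, mul_inv_cancel_left]
    rw [map_mul, map_mul, map_inv, h2] at h1
    set k := π2 (g⁻¹ * c)
    have hkw := Subgroup.mem_center_iff.mp (hKc _ hk) (π2 w)⁻¹
    rw [mul_assoc (π2 w), mul_assoc (π2 g), ← hkw, ← mul_assoc, ← mul_assoc,
      mul_left_inj] at h1
    exact mul_inv_eq_iff_eq_mul.mp h1
  obtain ⟨u, v, huv⟩ : ∃ u v : G, u * v * u⁻¹ * v⁻¹ ∉ K := by
    by_contra hno
    push Not at hno
    refine h.g_not_ker ((show D ≤ K from ?_) h.g_mem)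
    rw [hD, commutator_def, Subgroup.commutator_le]
    exact fun a _ b _ => hno a b
  have huv' : π u * π v * (π u)⁻¹ * (π v)⁻¹ = z := by
    simpa only [map_mul, map_inv] using hDK _ (hcD u v) huv
  have adj : ∀ w : G, ∃ e : G, (e = 1 ∨ e = u ∨ e = v ∨ e = u * v) ∧
      π (w * e) * π u * (π (w * e))⁻¹ * (π u)⁻¹ = 1 ∧
      π (w * e) * π v * (π (w * e))⁻¹ * (π v)⁻¹ = 1 := fun w => by
    obtain ⟨e, he, h1, h2⟩ := exists_adjust hzc hz2 hcom huv' (π w)
    rcases he with rfl | rfl | rfl | rfl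
    · exact ⟨1, Or.inl rfl, by simpa using h1, by simpa using h2⟩
    · exact ⟨u, Or.inr (Or.inl rfl), by rw [map_mul]; exact h1, by rw [map_mul]; exact h2⟩
    · exact ⟨v, Or.inr (Or.inr (Or.inl rfl)), by rw [map_mul]; exact h1, by rw [map_mul]; exact h2⟩
    · exact ⟨u * v, Or.inr (Or.inr (Or.inr rfl)), by rw [map_mul, map_mul]; exact h1,
        by rw [map_mul, map_mul]; exact h2⟩
  obtain ⟨p, r, hpu, hpv, hru, hrv, hpr⟩ : ∃ p r : G,
      π p * π u * (π p)⁻¹ * (π u)⁻¹ = 1 ∧ π p * π v * (π p)⁻¹ * (π v)⁻¹ = 1 ∧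
      π r * π u * (π r)⁻¹ * (π u)⁻¹ = 1 ∧ π r * π v * (π r)⁻¹ * (π v)⁻¹ = 1 ∧
      p * r * p⁻¹ * r⁻¹ ∉ K := by
    by_contra hno
    push Not at hno
    refine absurd ?_ hA.not_ge
    let f : Bool × Bool → G ⧸ D := fun b =>
      (((if b.1 then u else 1) * (if b.2 then v else 1) : G) : G ⧸ D)⁻¹
    have hf : Function.Surjective f := by
      intro w
      obtain ⟨w, rfl⟩ := QuotientGroup.mk_surjective w
      obtain ⟨e, he, h1, h2⟩ := adj w
      have hw : w * e ∈ D := h.mem_of_central fun x => by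
        obtain ⟨e', he', h1', h2'⟩ := adj x
        have h3 := mk_commute_iff.mpr (hno (w * e) (x * e') h1 h2 h1' h2')
        have h4 : π (w * e) * π e' = π e' * π (w * e) := by
          rw [mul_inv_eq_one, mul_inv_eq_iff_eq_mul] at h1 h2
          rcases he' with rfl | rfl | rfl | rfl
          · simp
          · exact h1
          · exact h2
          · rw [map_mul π u v, ← mul_assoc, h1, mul_assoc, h2, ← mul_assoc]
        refine mk_commute_iff.mp ?_
        rw [map_mul π x e'] at h3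
        refine mul_right_cancel (b := π e') ?_
        rw [mul_assoc (π x), h4, ← mul_assoc (π x), ← h3, mul_assoc]
      have hw' : ((w : G) : G ⧸ D) = ((e : G) : G ⧸ D)⁻¹ := eq_inv_of_mul_eq_one_left (by
        rw [← QuotientGroup.mk_mul]; exact (QuotientGroup.eq_one_iff _).mpr hw)
      rw [hw']
      rcases he with rfl | rfl | rfl | rfl
      · exact ⟨(false, false), by simp [f]⟩
      · exact ⟨(true, false), by simp [f]⟩
      · exact ⟨(false, true), by simp [f]⟩
      · exact ⟨(true, true), by simp [f]⟩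
    have h1 := Nat.card_le_card_of_surjective f hf
    rw [← Subgroup.index_eq_card] at h1
    simpa using h1
  have flip : ∀ {a b : G}, π a * π b * (π a)⁻¹ * (π b)⁻¹ = 1 →
      π b * π a * (π b)⁻¹ * (π a)⁻¹ = 1 := fun {a b} e => by
    have := congrArg (·⁻¹) e
    simpa [mul_assoc] using this
  have huS : u ∈ S := lem u p r hpr (flip hpu) (flip hru)
  have hvS : v ∈ S := lem v p r hpr (flip hpv) (flip hrv)
  have hall : ∀ w : G, w ∈ S := fun w => by
    obtain ⟨e, he, h1, h2⟩ := adj w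
    have heS : e ∈ S := by
      rcases he with rfl | rfl | rfl | rfl
      exacts [S.one_mem, huS, hvS, S.mul_mem huS hvS]
    simpa using S.mul_mem (lem (w * e) u v huv h1 h2) (S.inv_mem heS)
  have hKR : K ≤ R := fun k hk => by
    have hgk : g * k ∉ K := fun e => h.g_not_ker (by simpa using K.mul_mem e (K.inv_mem hk))
    obtain ⟨e, he⟩ := isConj_iff.mp
      ((h.ker_or_conj (D.mul_mem h.g_mem (h.ker_le hk))).resolve_left hgk)
    have h1 := hall e
    rw [hS, Subgroup.mem_comap, Subgroup.mem_centralizer_singleton_iff] at h1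
    refine (QuotientGroup.eq_one_iff k).mp ?_
    have h2 : π2 e * π2 g * (π2 e)⁻¹ = π2 g * π2 k := by
      rw [← map_inv, ← map_mul, ← map_mul, he, map_mul]
    rw [h1, mul_inv_cancel_right] at h2
    exact left_eq_mul.mp h2
  have hp : IsPGroup 2 (G ⧸ W) := fun y => by
    obtain ⟨x, rfl⟩ := QuotientGroup.mk_surjective y
    obtain ⟨j, hj⟩ := hpow _ (hsq x)
    refine ⟨j + 1, ?_⟩
    rw [← QuotientGroup.mk_pow, QuotientGroup.eq_one_iff, pow_succ', pow_mul]
    exact hj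
  have hKW : K ≤ W := by
    haveI := hp.isNilpotent
    have h1 : K.map (QuotientGroup.mk' W) ≤
        ⁅K.map (QuotientGroup.mk' W), (⊤ : Subgroup (G ⧸ W))⁆ := by
      rw [← Subgroup.map_top_of_surjective _ (QuotientGroup.mk'_surjective W),
        ← Subgroup.map_commutator]
      exact Subgroup.map_mono hKR
    have h2 := eq_bot_of_le_commutator h1
    rwa [Subgroup.map_eq_bot_iff, QuotientGroup.ker_mk'] at h2
  refine key ?_
  have h1 : g ^ 2 = 1 := orderOf_eq_one_iff.mp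
    (Nat.eq_one_of_dvd_coprimes (hcop.pow_right m).symm (hm ▸ orderOf_pow_dvd 2)
      (Subgroup.orderOf_dvd_natCard W (hKW hgq)))
  rw [show g ^ 4 = (g ^ 2) ^ 2 by rw [← pow_mul], h1, one_pow]

/-- The group is solvable. -/
theorem Seen.isSolvable : Group.IsSolvable G := by
  classical
  obtain ⟨q, hq, ⟨m, hm⟩, hgq, n, hn1, hn⟩ := h.order_prime
  haveI := Fact.mk hq
  obtain ⟨P, W, hgP, hWn, hWK, hcop, hpow⟩ := h.complement hm hgq
  haveI := hWn
  have hW : Group.IsSolvable W := by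
    by_cases h2 : q ^ n = 2
    · have hq2 : q = 2 := (Nat.prime_dvd_prime_iff_eq hq Nat.prime_two).mp
        (h2 ▸ dvd_pow_self q (by omega))
      subst hq2
      exact h.solvable_two hm hgq (hn.trans h2) hWn hWK hcop hpow
    · exact h.solvable_big hm hgq hn hn1 h2 hgP hWn hWK hcop hpow
  have hWD : W ≤ commutator G := hWK.trans h.ker_le
  haveI : Group.IsSolvable (W.subgroupOf (commutator G)) :=
    isSolvable_of_injective (Subgroup.subgroupOfEquivOfLe hWD).toMonoidHom (MulEquiv.injective _) hW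
  have hp : IsPGroup q (commutator G ⧸ W.subgroupOf (commutator G)) := fun z => by
    obtain ⟨⟨x, hx⟩, rfl⟩ := QuotientGroup.mk_surjective z
    obtain ⟨j, hj⟩ := hpow x hx
    exact ⟨j, by rw [← QuotientGroup.mk_pow, QuotientGroup.eq_one_iff]; exact hj⟩
  have hD : Group.IsSolvable (commutator G) :=
    (Group.isSolvable_iff_subgroup_quotient (W.subgroupOf (commutator G))).mpr
      ⟨inferInstance, @IsNilpotent.to_isSolvable _ _ hp.isNilpotent⟩
  exact (Group.isSolvable_iff_subgroup_quotient (commutator G)).mpr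
    ⟨hD, Group.isSolvable_of_comm (G := Abelianization G) fun a b => mul_comm a b⟩

end Cfsg.Agent.Char.OneSeen
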